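import Mathlib

set_option autoImplicit false

/-!
Generic group-action bookkeeping used for the subgroups of small index of `M24`:
orbits as finsets, orbit sizes modulo a prime, subgroups of small index in simple groups.
-/

namespace Cfsg.Agent.Lib.Helper6.M24Idx

section orbits

variable {Γ : Type*} [Group Γ] {X : Type*} [MulAction Γ X] [Fintype X]

open Classical in
/-- the orbit of `x` under the subgroup `H`, as a finset -/
noncomputable def orbF (H : Subgroup Γ) (x : X) : Finset X :=
  Finset.univ.filter fun y => ∃ g ∈ H, g • x = y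

theorem mem_orbF {H : Subgroup Γ} {x y : X} : y ∈ orbF H x ↔ ∃ g ∈ H, g • x = y := by
  classical
  unfold orbF
  rw [Finset.mem_filter]
  simp

theorem self_mem_orbF (H : Subgroup Γ) (x : X) : x ∈ orbF H x :=
  mem_orbF.mpr ⟨1, H.one_mem, one_smul _ _⟩

theorem smul_mem_orbF {H : Subgroup Γ} {x y : X} {g : Γ} (hg : g ∈ H) :
    g • y ∈ orbF H x ↔ y ∈ orbF H x := by
  rw [mem_orbF, mem_orbF]
  constructor
  · rintro ⟨h, hh, e⟩
    refine ⟨g⁻¹ * h, H.mul_mem (H.inv_mem hg) hh, ?_⟩
    rw [mul_smul, e, inv_smul_smul]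
  · rintro ⟨h, hh, rfl⟩
    exact ⟨g * h, H.mul_mem hg hh, mul_smul _ _ _⟩

theorem orbF_eq_of_mem {H : Subgroup Γ} {x y : X} (h : y ∈ orbF H x) : orbF H y = orbF H x := by
  obtain ⟨g, hg, rfl⟩ := mem_orbF.mp h
  ext z
  rw [mem_orbF, mem_orbF]
  constructor
  · rintro ⟨k, hk, rfl⟩
    exact ⟨k * g, H.mul_mem hk hg, mul_smul _ _ _⟩
  · rintro ⟨k, hk, rfl⟩
    refine ⟨k * g⁻¹, H.mul_mem hk (H.inv_mem hg), ?_⟩
    rw [mul_smul, inv_smul_smul]

theorem orbF_subset {H : Subgroup Γ} {x : X} {s : Finset X} (hx : x ∈ s)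
    (hs : ∀ g ∈ H, ∀ y ∈ s, g • y ∈ s) : orbF H x ⊆ s := by
  intro y hy
  obtain ⟨g, hg, rfl⟩ := mem_orbF.mp hy
  exact hs g hg x hx

theorem orbF_mono {H K : Subgroup Γ} (h : H ≤ K) (x : X) : orbF H x ⊆ orbF K x := by
  intro y hy
  obtain ⟨g, hg, rfl⟩ := mem_orbF.mp hy
  exact mem_orbF.mpr ⟨g, h hg, rfl⟩

/-- orbit-stabiliser, flat form with finsets -/
theorem card_eq_orbF_mul [Finite Γ] (H : Subgroup Γ) (x : X) :
    Nat.card H = (orbF H x).card * Nat.card ↥(H ⊓ MulAction.stabilizer Γ x) := by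
  classical
  have h1 : Nat.card (MulAction.stabilizer H x) = Nat.card ↥(H ⊓ MulAction.stabilizer Γ x) :=
    Nat.card_congr
      { toFun := fun g => ⟨g.1.1, g.1.2, g.2⟩
        invFun := fun g => ⟨⟨g.1, g.2.1⟩, g.2.2⟩
        left_inv := fun _ => rfl
        right_inv := fun _ => rfl }
  have h2 : Nat.card (MulAction.orbit H x) = (orbF H x).card := by
    rw [← Nat.card_eq_finsetCard]
    apply Nat.card_congr
    refine Equiv.subtypeEquivRight fun y => ?_
    rw [mem_orbF, MulAction.mem_orbit_iff]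
    constructor
    · rintro ⟨g, rfl⟩
      exact ⟨g.1, g.2, rfl⟩
    · rintro ⟨g, hg, rfl⟩
      exact ⟨⟨g, hg⟩, rfl⟩
  rw [← h1, ← h2, Subgroup.card_eq_card_quotient_mul_card_subgroup (MulAction.stabilizer H x),
    Nat.card_congr (MulAction.orbitEquivQuotientStabilizer H x)]

theorem card_orbF_dvd [Finite Γ] (H : Subgroup Γ) (x : X) : (orbF H x).card ∣ Nat.card H :=
  ⟨_, card_eq_orbF_mul H x⟩

/-- if the orbit of `x` under `H` is everything of a set of known size, compute the stabiliser -/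
theorem stab_le_of_fix {H : Subgroup Γ} {x y : X}
    (h : ∀ g ∈ H ⊓ MulAction.stabilizer Γ x, g • y = y) :
    H ⊓ MulAction.stabilizer Γ x ≤ H ⊓ MulAction.stabilizer Γ y := by
  intro g hg
  exact ⟨hg.1, MulAction.mem_stabilizer_iff.mpr (h g hg)⟩

theorem eq_of_le_of_card_le [Finite Γ] {H K : Subgroup Γ} (h : H ≤ K)
    (hc : Nat.card K ≤ Nat.card H) : H = K := by
  have : (H : Set Γ) = K := by
    apply Set.eq_of_subset_of_ncard_le h _ (Set.toFinite _)
    rw [← Nat.card_coe_set_eq, ← Nat.card_coe_set_eq]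
    exact hc
  exact SetLike.coe_injective this

end orbits

section modp

variable {α : Type*} [Fintype α] [DecidableEq α]

/-- the number of points of an invariant set is congruent modulo `p` to the number of its
fixed points, for a permutation of order dividing `p` -/
theorem card_modEq_filter_fixed (σ : Equiv.Perm α) (p : ℕ) [Fact p.Prime] (hσ : σ ^ p = 1)
    (s : Finset α) (hs : ∀ a, σ a ∈ s ↔ a ∈ s) :
    s.card ≡ (s.filter fun a => σ a = a).card [MOD p] := by
  let τ : Equiv.Perm {a // a ∈ s} := σ.subtypePerm hs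
  have hτ : τ ^ p ^ 1 = 1 := by
    rw [pow_one]
    ext a
    simp [τ, Equiv.Perm.subtypePerm_pow, hσ]
  have h1 := Equiv.Perm.card_compl_support_modEq hτ
  rw [Fintype.card_coe] at h1
  refine h1.symm.trans ?_
  have hE : (τ.support)ᶜ.card = (s.filter fun a => σ a = a).card := by
    apply Finset.card_bij (fun (a : {a // a ∈ s}) _ => (a : α))
    · intro a ha
      rw [Finset.mem_compl, Equiv.Perm.mem_support, not_not] at ha
      rw [Finset.mem_filter]
      refine ⟨a.2, ?_⟩
      have := congrArg Subtype.val ha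
      simpa [τ] using this
    · intro a _ b _ hab
      exact Subtype.ext hab
    · intro b hb
      rw [Finset.mem_filter] at hb
      refine ⟨⟨b, hb.1⟩, ?_, rfl⟩
      rw [Finset.mem_compl, Equiv.Perm.mem_support, not_not]
      apply Subtype.ext
      simpa [τ] using hb.2
  rw [hE]

end modp

section simple

/-- a subgroup of small index in a finite simple group is everything -/
theorem eq_top_of_card_not_dvd_factorial {A : Type*} [Group A] [Finite A] [IsSimpleGroup A]
    (L : Subgroup A) (h : ¬ Nat.card A ∣ (L.index).factorial) : L = ⊤ := by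
  classical
  let φ : A →* Equiv.Perm (A ⧸ L) := MulAction.toPermHom A (A ⧸ L)
  rcases (MonoidHom.normal_ker φ).eq_bot_or_eq_top with hb | ht
  · exfalso
    apply h
    have hinj : Function.Injective φ := (MonoidHom.ker_eq_bot_iff φ).mp hb
    have := Subgroup.card_dvd_of_injective φ hinj
    rwa [Nat.card_perm, ← Subgroup.index_eq_card] at this
  · rw [eq_top_iff]
    intro a _
    have ha : a ∈ φ.ker := by rw [ht]; trivial
    rw [MonoidHom.mem_ker] at ha
    have h1 := congrArg (fun e : Equiv.Perm (A ⧸ L) => e ((1 : A) : A ⧸ L)) ha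
    simp only [Equiv.Perm.coe_one, id_eq] at h1
    have h2 : φ a ((1 : A) : A ⧸ L) = ((a * 1 : A) : A ⧸ L) := rfl
    rw [h2, mul_one, QuotientGroup.eq] at h1
    simpa using L.inv_mem h1

/-- flat form: a subgroup `K` of relative index at most `k` in a simple subgroup `B` with
`|B| ∤ k!` contains `B` -/
theorem le_of_relIndex_le {Γ : Type*} [Group Γ] [Finite Γ] (K B : Subgroup Γ)
    [IsSimpleGroup ↥B] (k : ℕ) (hk : K.relIndex B ≤ k) (h : ¬ Nat.card B ∣ k.factorial) :
    B ≤ K := by
  rw [← Subgroup.subgroupOf_eq_top]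
  apply eq_top_of_card_not_dvd_factorial
  intro hd
  exact h (hd.trans (Nat.factorial_dvd_factorial hk))

end simple

end Cfsg.Agent.Lib.Helper6.M24Idx
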