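import Mathlib
import Cfsg.Prelude.Def_SporadicCombinatorics
import Cfsg.Agent.Lib.Helper3.Golay.M24List
import Cfsg.Agent.Lib.Helper3.Golay.OctadStab
import Cfsg.Agent.Lib.Helper6.M24Idx.Generic

set_option autoImplicit false

/-!
Basic counting facts for `M24`: orders of pointwise stabilisers of at most five points, the number
of fixed points of elements of order 5, 7, 11, orbit sizes of subgroups modulo these primes.
-/

namespace Cfsg.Agent.Lib.Helper6.M24Idx

open Cfsg Cfsg.Agent.Lib.Helper3.Golay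
open scoped Pointwise

/-- pointwise stabiliser in `M24` of a finset of points -/
def PW (t : Finset GolayPt) : Subgroup (Equiv.Perm GolayPt) :=
  M24 ⊓ fixingSubgroup (Equiv.Perm GolayPt) (↑t : Set GolayPt)

theorem mem_PW {t : Finset GolayPt} {g : Equiv.Perm GolayPt} :
    g ∈ PW t ↔ g ∈ M24 ∧ ∀ x ∈ t, g x = x := by
  unfold PW
  rw [Subgroup.mem_inf, mem_fixingSubgroup_iff]
  rfl

theorem PW_le (t : Finset GolayPt) : PW t ≤ M24 := inf_le_left

theorem PW_insert (a : GolayPt) (t : Finset GolayPt) :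
    PW (insert a t) = PW t ⊓ MulAction.stabilizer (Equiv.Perm GolayPt) a := by
  ext g
  rw [Subgroup.mem_inf, mem_PW, mem_PW, MulAction.mem_stabilizer_iff]
  constructor
  · rintro ⟨h1, h2⟩
    exact ⟨⟨h1, fun x hx => h2 x (Finset.mem_insert_of_mem hx)⟩, h2 a (Finset.mem_insert_self a t)⟩
  · rintro ⟨⟨h1, h2⟩, h3⟩
    refine ⟨h1, fun x hx => ?_⟩
    rcases Finset.mem_insert.mp hx with rfl | hx
    · exact h3
    · exact h2 x hx

theorem map_eq_self {α : Type*} {f : α → α} : ∀ {l : List α}, l.map f = l → ∀ x ∈ l, f x = x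
  | [], _, x, hx => by simp at hx
  | a :: l, h, x, hx => by
    rw [List.map_cons, List.cons.injEq] at h
    rcases List.mem_cons.mp hx with rfl | hx
    · exact h.1
    · exact map_eq_self h.2 x hx

/-- the pointwise stabiliser of at most four points is transitive on the remaining points -/
theorem exists_PW_map (t : Finset GolayPt) (ht : t.card ≤ 4) {a b : GolayPt} (ha : a ∉ t)
    (hb : b ∉ t) : ∃ g ∈ PW t, g a = b := by
  have hnd : ∀ c, c ∉ t → (t.toList ++ [c]).Nodup := by
    intro c hc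
    rw [List.nodup_append]
    refine ⟨Finset.nodup_toList t, List.nodup_singleton c, ?_⟩
    intro x hx y hy
    rw [List.mem_singleton] at hy
    rw [Finset.mem_toList] at hx
    rintro rfl
    exact hc (hy ▸ hx)
  obtain ⟨g, hg, hmap⟩ := exists_map_list (t.toList ++ [a]) (t.toList ++ [b]) (hnd a ha) (hnd b hb)
    (by simp) (by simp; omega)
  rw [List.map_append] at hmap
  obtain ⟨h1, h2⟩ := List.append_inj hmap (by simp)
  refine ⟨g, mem_PW.mpr ⟨hg, fun x hx => map_eq_self h1 x (Finset.mem_toList.mpr hx)⟩, ?_⟩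
  simpa using h2

theorem PW_apply_not_mem {t : Finset GolayPt} {g : Equiv.Perm GolayPt} (hg : g ∈ PW t)
    {a : GolayPt} (ha : a ∉ t) : g a ∉ t := by
  intro h
  have h1 := (mem_PW.mp hg).2 (g a) h
  exact ha (g.injective h1 ▸ h)

/-- the order of the pointwise stabiliser of `k ≤ 5` points -/
theorem card_PW (t : Finset GolayPt) (ht : t.card ≤ 5) :
    Nat.card (PW t) * (24).descFactorial t.card = 244823040 := by
  classical
  induction t using Finset.induction_on with
  | empty =>
    have : PW ∅ = M24 := by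
      ext g
      rw [mem_PW]
      simp
    rw [this, card_M24]
    simp
  | insert a t ha ih =>
    rw [Finset.card_insert_of_notMem ha] at ht ⊢
    have ih' := ih (by omega)
    have h := card_of_orbit_eq (PW t) a (Finset.univ \ t)
      (fun g hg => by
        rw [Finset.mem_sdiff]
        exact ⟨Finset.mem_univ _, PW_apply_not_mem hg ha⟩)
      (fun δ hδ => by
        rw [Finset.mem_sdiff] at hδ
        obtain ⟨g, hg, hga⟩ := exists_PW_map t (by omega) ha hδ.2
        exact ⟨g, hg, hga⟩)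
    rw [← PW_insert] at h
    rw [Finset.card_sdiff_of_subset (Finset.subset_univ _), Finset.card_univ, card_pts] at h
    rw [Nat.descFactorial_succ, ← ih', h]
    ring

theorem card_PW_eq (t : Finset GolayPt) (ht : t.card ≤ 5) :
    Nat.card (PW t) = 244823040 / (24).descFactorial t.card := by
  have h := card_PW t ht
  have hpos : 0 < (24).descFactorial t.card := Nat.descFactorial_pos.mpr (by omega)
  exact (Nat.div_eq_of_eq_mul_left hpos h.symm).symm

theorem card_PW_three {t : Finset GolayPt} (ht : t.card = 3) : Nat.card (PW t) = 20160 := by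
  rw [card_PW_eq t (by omega), ht]; decide

theorem card_PW_four {t : Finset GolayPt} (ht : t.card = 4) : Nat.card (PW t) = 960 := by
  rw [card_PW_eq t (by omega), ht]; decide

theorem card_PW_five {t : Finset GolayPt} (ht : t.card = 5) : Nat.card (PW t) = 48 := by
  rw [card_PW_eq t (by omega), ht]; decide

/-- the set of fixed points of a permutation -/
def fixF (g : Equiv.Perm GolayPt) : Finset GolayPt := Finset.univ.filter fun a => g a = a

theorem mem_fixF {g : Equiv.Perm GolayPt} {a : GolayPt} : a ∈ fixF g ↔ g a = a := by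
  unfold fixF; simp

/-- an element of prime order `p` of `M24` fixes fewer than `k` points if `p` does not divide the
order of a `k`-point stabiliser -/
theorem card_fixF_lt {g : Equiv.Perm GolayPt} (hg : g ∈ M24) {p : ℕ}
    (ho : orderOf g = p) (k : ℕ) (hk : k ≤ 5)
    (hnd : ¬ p ∣ 244823040 / (24).descFactorial k) : (fixF g).card < k := by
  by_contra hcon
  obtain ⟨t, hts, htk⟩ := Finset.exists_subset_card_eq (not_lt.mp hcon)
  have hgt : g ∈ PW t := mem_PW.mpr ⟨hg, fun x hx => mem_fixF.mp (hts hx)⟩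
  have h1 : orderOf (⟨g, hgt⟩ : ↥(PW t)) ∣ Nat.card (PW t) := orderOf_dvd_natCard _
  rw [Subgroup.orderOf_mk, ho, card_PW_eq t (by omega), htk] at h1
  exact hnd h1

theorem card_fixF_modEq {g : Equiv.Perm GolayPt} {p : ℕ} [Fact p.Prime] (ho : orderOf g = p) :
    (fixF g).card % p = 24 % p := by
  have h := card_modEq_filter_fixed g p (by rw [← ho]; exact pow_orderOf_eq_one g) Finset.univ
    (fun a => by simp)
  rw [Finset.card_univ, card_pts] at h
  exact h.symm

theorem card_fixF_eleven {g : Equiv.Perm GolayPt} (hg : g ∈ M24) (ho : orderOf g = 11) :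
    (fixF g).card = 2 := by
  have : Fact (Nat.Prime 11) := ⟨by norm_num⟩
  have h1 := card_fixF_lt hg ho 3 (by norm_num) (by decide)
  have h2 := card_fixF_modEq ho
  omega

theorem card_fixF_seven {g : Equiv.Perm GolayPt} (hg : g ∈ M24) (ho : orderOf g = 7) :
    (fixF g).card = 3 := by
  have : Fact (Nat.Prime 7) := ⟨by norm_num⟩
  have h1 := card_fixF_lt hg ho 4 (by norm_num) (by decide)
  have h2 := card_fixF_modEq ho
  omega

theorem card_fixF_five {g : Equiv.Perm GolayPt} (hg : g ∈ M24) (ho : orderOf g = 5) :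
    (fixF g).card = 4 := by
  have : Fact (Nat.Prime 5) := ⟨by norm_num⟩
  have h1 := card_fixF_lt hg ho 5 (by norm_num) (by decide)
  have h2 := card_fixF_modEq ho
  omega

/-- Cauchy in a flat subgroup -/
theorem exists_orderOf_eq (K : Subgroup (Equiv.Perm GolayPt)) (p : ℕ) [Fact p.Prime]
    (hdvd : p ∣ Nat.card K) : ∃ g ∈ K, orderOf g = p := by
  obtain ⟨x, hx⟩ := exists_prime_orderOf_dvd_card' p hdvd
  exact ⟨x.1, x.2, by rw [← hx, Subgroup.orderOf_coe]⟩

/-- the size of a `g`-invariant set modulo the order `p` of `g` -/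
theorem card_mod_of_invariant {g : Equiv.Perm GolayPt} {p : ℕ} [Fact p.Prime]
    (ho : orderOf g = p) (s : Finset GolayPt) (hs : ∀ a, g a ∈ s ↔ a ∈ s) :
    s.card % p = (s ∩ fixF g).card % p := by
  have h := card_modEq_filter_fixed g p (by rw [← ho]; exact pow_orderOf_eq_one g) s hs
  have e : s ∩ fixF g = s.filter fun a => g a = a := by
    ext a
    rw [Finset.mem_inter, mem_fixF, Finset.mem_filter]
  rw [e]
  exact h

/-- invariance of a finset under a subgroup, in the two-sided form -/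
theorem invariant_iff {K : Subgroup (Equiv.Perm GolayPt)} {s : Finset GolayPt}
    (hs : ∀ g ∈ K, ∀ y ∈ s, g y ∈ s) {g : Equiv.Perm GolayPt} (hg : g ∈ K) (a : GolayPt) :
    g a ∈ s ↔ a ∈ s := by
  constructor
  · intro h
    have := hs g⁻¹ (K.inv_mem hg) (g a) h
    simpa using this
  · exact hs g hg a

/-- orbit sizes modulo `p`: if `K ≤ M24` has order divisible by `p` and elements of order `p`
have exactly `fp` fixed points, then a `K`-invariant set disjoint from a set `F` of common fixed
points of `K` has size congruent to some `r` with `r + |F| ≤ fp` -/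
theorem card_mod_aux (K : Subgroup (Equiv.Perm GolayPt)) (hK : K ≤ M24) (p fp : ℕ)
    [Fact p.Prime] (hfp : ∀ g ∈ M24, orderOf g = p → (fixF g).card = fp)
    (hdvd : p ∣ Nat.card K) (F s : Finset GolayPt) (hF : ∀ g ∈ K, ∀ x ∈ F, g x = x)
    (hs : ∀ g ∈ K, ∀ y ∈ s, g y ∈ s) (hd : Disjoint s F) :
    ∃ r, r + F.card ≤ fp ∧ s.card % p = r % p := by
  obtain ⟨g, hg, ho⟩ := exists_orderOf_eq K p hdvd
  refine ⟨(s ∩ fixF g).card, ?_, card_mod_of_invariant ho s (invariant_iff hs hg)⟩
  rw [← hfp g (hK hg) ho, ← Finset.card_union_of_disjoint]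
  · apply Finset.card_le_card
    intro a ha
    rcases Finset.mem_union.mp ha with h | h
    · exact (Finset.mem_inter.mp h).2
    · exact mem_fixF.mpr (hF g hg a h)
  · exact Finset.disjoint_of_subset_left Finset.inter_subset_left hd

theorem card_mod_seven (K : Subgroup (Equiv.Perm GolayPt)) (hK : K ≤ M24)
    (hdvd : 7 ∣ Nat.card K) (F s : Finset GolayPt) (hF : ∀ g ∈ K, ∀ x ∈ F, g x = x)
    (hs : ∀ g ∈ K, ∀ y ∈ s, g y ∈ s) (hd : Disjoint s F) :
    ∃ r, r + F.card ≤ 3 ∧ s.card % 7 = r % 7 := by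
  have : Fact (Nat.Prime 7) := ⟨by norm_num⟩
  exact card_mod_aux K hK 7 3 (fun g hg ho => card_fixF_seven hg ho) hdvd F s hF hs hd

theorem card_mod_five (K : Subgroup (Equiv.Perm GolayPt)) (hK : K ≤ M24)
    (hdvd : 5 ∣ Nat.card K) (F s : Finset GolayPt) (hF : ∀ g ∈ K, ∀ x ∈ F, g x = x)
    (hs : ∀ g ∈ K, ∀ y ∈ s, g y ∈ s) (hd : Disjoint s F) :
    ∃ r, r + F.card ≤ 4 ∧ s.card % 5 = r % 5 := by
  have : Fact (Nat.Prime 5) := ⟨by norm_num⟩
  exact card_mod_aux K hK 5 4 (fun g hg ho => card_fixF_five hg ho) hdvd F s hF hs hd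

theorem card_mod_eleven (K : Subgroup (Equiv.Perm GolayPt)) (hK : K ≤ M24)
    (hdvd : 11 ∣ Nat.card K) (F s : Finset GolayPt) (hF : ∀ g ∈ K, ∀ x ∈ F, g x = x)
    (hs : ∀ g ∈ K, ∀ y ∈ s, g y ∈ s) (hd : Disjoint s F) :
    ∃ r, r + F.card ≤ 2 ∧ s.card % 11 = r % 11 := by
  have : Fact (Nat.Prime 11) := ⟨by norm_num⟩
  exact card_mod_aux K hK 11 2 (fun g hg ho => card_fixF_eleven hg ho) hdvd F s hF hs hd

/-- the orbit of a point under a subgroup is invariant -/
theorem orbF_invariant (K : Subgroup (Equiv.Perm GolayPt)) (x : GolayPt) :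
    ∀ g ∈ K, ∀ y ∈ orbF K x, g y ∈ orbF K x := by
  intro g hg y hy
  exact (smul_mem_orbF (x := x) (y := y) hg).mpr hy

/-- the complement of an invariant set is invariant -/
theorem compl_invariant {K : Subgroup (Equiv.Perm GolayPt)} {s : Finset GolayPt}
    (hs : ∀ g ∈ K, ∀ y ∈ s, g y ∈ s) : ∀ g ∈ K, ∀ y ∈ Finset.univ \ s, g y ∈ Finset.univ \ s := by
  intro g hg y hy
  rw [Finset.mem_sdiff] at hy ⊢
  refine ⟨Finset.mem_univ _, fun h => hy.2 ?_⟩
  exact (invariant_iff hs hg y).mp h

/-- a transitive subgroup: all point stabilisers have the same order -/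
theorem card_stab_of_transitive (H : Subgroup (Equiv.Perm GolayPt))
    (htr : ∀ a b : GolayPt, ∃ h ∈ H, h a = b) (x : GolayPt) :
    Nat.card H = 24 * Nat.card ↥(H ⊓ MulAction.stabilizer (Equiv.Perm GolayPt) x) := by
  have h := card_eq_orbF_mul H x
  have : orbF H x = Finset.univ := by
    ext y
    simp only [Finset.mem_univ, iff_true]
    obtain ⟨h, hh, e⟩ := htr x y
    exact mem_orbF.mpr ⟨h, hh, e⟩
  rw [this, Finset.card_univ, card_pts] at h
  exact h

/-- the setwise stabiliser in `M24` of a finset of points -/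
def SO (o : Finset GolayPt) : Subgroup (Equiv.Perm GolayPt) :=
  M24 ⊓ MulAction.stabilizer (Equiv.Perm GolayPt) o

theorem mem_SO {o : Finset GolayPt} {g : Equiv.Perm GolayPt} :
    g ∈ SO o ↔ g ∈ M24 ∧ g • o = o := by
  unfold SO
  constructor
  · intro h
    exact ⟨h.1, MulAction.mem_stabilizer_iff.mp h.2⟩
  · intro h
    exact ⟨h.1, MulAction.mem_stabilizer_iff.mpr h.2⟩

theorem SO_le (o : Finset GolayPt) : SO o ≤ M24 := inf_le_left

theorem SO_apply_mem {o : Finset GolayPt} {g : Equiv.Perm GolayPt} (hg : g ∈ SO o) (x : GolayPt) :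
    g x ∈ o ↔ x ∈ o :=
  stab_iff.mp hg.2 x

theorem mem_SO_of_forall {o : Finset GolayPt} {g : Equiv.Perm GolayPt} (hg : g ∈ M24)
    (h : ∀ x ∈ o, g x ∈ o) : g ∈ SO o := by
  refine mem_SO.mpr ⟨hg, ?_⟩
  apply Finset.eq_of_subset_of_card_le
  · intro y hy
    rw [Finset.mem_smul_finset] at hy
    obtain ⟨x, hx, rfl⟩ := hy
    exact h x hx
  · rw [Finset.card_smul_finset]


/-! ### point stabilisers in a flat subgroup -/

/-- the stabiliser of the point `x` in the subgroup `H` -/
def St (H : Subgroup (Equiv.Perm GolayPt)) (x : GolayPt) : Subgroup (Equiv.Perm GolayPt) :=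
  H ⊓ MulAction.stabilizer (Equiv.Perm GolayPt) x

theorem mem_St {H : Subgroup (Equiv.Perm GolayPt)} {x : GolayPt} {g : Equiv.Perm GolayPt} :
    g ∈ St H x ↔ g ∈ H ∧ g x = x := by
  unfold St
  constructor
  · intro h
    exact ⟨h.1, MulAction.mem_stabilizer_iff.mp h.2⟩
  · intro h
    exact ⟨h.1, MulAction.mem_stabilizer_iff.mpr h.2⟩

theorem St_le (H : Subgroup (Equiv.Perm GolayPt)) (x : GolayPt) : St H x ≤ H := inf_le_left

theorem St_mono {H K : Subgroup (Equiv.Perm GolayPt)} (h : H ≤ K) (x : GolayPt) :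
    St H x ≤ St K x := inf_le_inf_right _ h

theorem card_St_mul (H : Subgroup (Equiv.Perm GolayPt)) (x : GolayPt) :
    Nat.card H = (orbF H x).card * Nat.card (St H x) := card_eq_orbF_mul H x

theorem St_fix (H : Subgroup (Equiv.Perm GolayPt)) (x : GolayPt) :
    ∀ g ∈ St H x, ∀ a ∈ ({x} : Finset GolayPt), g a = a := by
  intro g hg a ha
  rw [Finset.mem_singleton] at ha
  rw [ha]
  exact (mem_St.mp hg).2

theorem St_comm (H : Subgroup (Equiv.Perm GolayPt)) (x y : GolayPt) :
    St (St H x) y = St (St H y) x := by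
  ext g
  simp only [mem_St]
  tauto

theorem not_mem_orbF_St {H : Subgroup (Equiv.Perm GolayPt)} {x v : GolayPt} (hv : v ≠ x) :
    x ∉ orbF (St H x) v := by
  intro h
  obtain ⟨k, hk, e⟩ := mem_orbF.mp h
  have hkx : k x = x := (mem_St.mp hk).2
  have e' : k v = x := e
  exact hv (k.injective (e'.trans hkx.symm))

theorem disjoint_orbF_St {H : Subgroup (Equiv.Perm GolayPt)} {x v : GolayPt} (hv : v ≠ x) :
    Disjoint (orbF (St H x) v) ({x} : Finset GolayPt) := by
  rw [Finset.disjoint_singleton_right]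
  exact not_mem_orbF_St hv

theorem card_St_of_transitive (H : Subgroup (Equiv.Perm GolayPt))
    (htr : ∀ a b : GolayPt, ∃ h ∈ H, h a = b) (x : GolayPt) :
    Nat.card H = 24 * Nat.card (St H x) := card_stab_of_transitive H htr x

/-- a subgroup of `M24` preserving a pair `s` and fixing `t` pointwise has order at most twice
the order of the pointwise stabiliser of `s ∪ t` -/
theorem card_pair_le {s t : Finset GolayPt} (hs : s.card = 2)
    (L : Subgroup (Equiv.Perm GolayPt)) (hL : L ≤ SO s) (hLt : L ≤ PW t) :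
    Nat.card L ≤ 2 * Nat.card (PW (s ∪ t)) := by
  classical
  obtain ⟨u, v, huv, rfl⟩ := Finset.card_eq_two.mp hs
  have h1 := card_St_mul L u
  have hsub : orbF L u ⊆ {u, v} :=
    orbF_subset (by simp) (fun g hg y hy => (SO_apply_mem (hL hg) y).mpr hy)
  have h2 : (orbF L u).card ≤ 2 := (Finset.card_le_card hsub).trans (by rw [hs])
  have h3 : St L u ≤ PW ({u, v} ∪ t) := by
    intro g hg
    obtain ⟨hgL, hgu⟩ := mem_St.mp hg
    refine mem_PW.mpr ⟨(mem_SO.mp (hL hgL)).1, ?_⟩
    intro x hx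
    rcases Finset.mem_union.mp hx with hx | hx
    · rcases Finset.mem_insert.mp hx with rfl | hx
      · exact hgu
      · rw [Finset.mem_singleton] at hx
        subst hx
        have h4 : g x ∈ ({u, x} : Finset GolayPt) := (SO_apply_mem (hL hgL) x).mpr (by simp)
        rcases Finset.mem_insert.mp h4 with h5 | h5
        · exact absurd (g.injective (h5.trans hgu.symm)) (Ne.symm huv)
        · exact Finset.mem_singleton.mp h5
    · exact (mem_PW.mp (hLt hgL)).2 x hx
  have h5 : Nat.card (St L u) ≤ Nat.card (PW ({u, v} ∪ t)) :=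
    Nat.le_of_dvd Nat.card_pos (Subgroup.card_dvd_of_le h3)
  calc Nat.card L = (orbF L u).card * Nat.card (St L u) := h1
    _ ≤ 2 * Nat.card (PW ({u, v} ∪ t)) := Nat.mul_le_mul h2 h5

end Cfsg.Agent.Lib.Helper6.M24Idx
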