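import Mathlib
import Cfsg.Prelude.Def_SporadicCombinatorics
import Cfsg.Agent.Lib.Helper6.M24Idx.Basic
import Cfsg.Agent.S0380
import Cfsg.Agent.S0249

set_option autoImplicit false

/-!
The pointwise stabiliser of three points in `M24` is simple (flat form of S0380 + S0249).
-/

namespace Cfsg.Agent.Lib.Helper6.M24Idx

open Cfsg Cfsg.Agent.Lib.Helper3.Golay
open scoped Pointwise

/-- the flat three-point stabiliser versus the one in `↥M24` -/
def pwThreeEquiv (p q r : GolayPt) :
    ↥(PW {p, q, r}) ≃* ↥(MulAction.stabilizer M24 p ⊓ MulAction.stabilizer M24 q ⊓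
      MulAction.stabilizer M24 r) where
  toFun g := ⟨⟨g.1, (mem_PW.mp g.2).1⟩, by
    have h := (mem_PW.mp g.2).2
    refine ⟨⟨?_, ?_⟩, ?_⟩
    · exact MulAction.mem_stabilizer_iff.mpr (h p (by simp))
    · exact MulAction.mem_stabilizer_iff.mpr (h q (by simp))
    · exact MulAction.mem_stabilizer_iff.mpr (h r (by simp))⟩
  invFun k := ⟨k.1.1, mem_PW.mpr ⟨k.1.2, by
    intro x hx
    have hp : (k.1 : Equiv.Perm GolayPt) p = p := MulAction.mem_stabilizer_iff.mp k.2.1.1
    have hq : (k.1 : Equiv.Perm GolayPt) q = q := MulAction.mem_stabilizer_iff.mp k.2.1.2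
    have hr : (k.1 : Equiv.Perm GolayPt) r = r := MulAction.mem_stabilizer_iff.mp k.2.2
    simp only [Finset.mem_insert, Finset.mem_singleton] at hx
    rcases hx with rfl | rfl | rfl
    · exact hp
    · exact hq
    · exact hr⟩⟩
  left_inv _ := rfl
  right_inv _ := rfl
  map_mul' _ _ := rfl

theorem isSimpleGroup_PW_three {t : Finset GolayPt} (ht : t.card = 3) :
    IsSimpleGroup ↥(PW t) := by
  classical
  obtain ⟨p, q, r, hpq, hpr, hqr, rfl⟩ := Finset.card_eq_three.mp ht
  letI : Fintype (GaloisField 2 2) := Fintype.ofFinite _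
  have hF : Fintype.card (GaloisField 2 2) = 4 := by
    rw [Fintype.card_eq_nat_card, GaloisField.card 2 2 (by norm_num)]
    norm_num
  obtain ⟨e⟩ := Cfsg.Agent.S0380.result p q r hpq hpr hqr (GaloisField 2 2) hF
  have : IsSimpleGroup (Matrix.ProjectiveSpecialLinearGroup (Fin 3) (GaloisField 2 2)) :=
    Cfsg.Agent.S0249.result 3 le_rfl
  exact ((pwThreeEquiv p q r).trans e).isSimpleGroup

end Cfsg.Agent.Lib.Helper6.M24Idx
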