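import Mathlib
import Cfsg.Prelude.Def_SporadicCombinatorics
import Cfsg.Agent.Lib.Helper3.Golay.Weights
import Cfsg.Agent.Lib.Helper6.M24Idx.Basic
import Cfsg.Agent.S0381
import Cfsg.Agent.S1554

set_option autoImplicit false

/-!
Subgroups of `M24` containing a Sylow 2-subgroup: they contain a subgroup `K` of order `2^10`
fixing an octad `o`; `K` contains the pointwise stabiliser of `o`, is transitive on `o` and on its
complement.
-/

namespace Cfsg.Agent.Lib.Helper6.M24Idx

open Cfsg Cfsg.Agent.Lib.Helper3.Golay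
open scoped Pointwise

theorem PW_le_SO (o : Finset GolayPt) : PW o ≤ SO o := fix_le_stab o

theorem card_SO {o : Finset GolayPt} (ho : o ∈ octads) : Nat.card (SO o) = 322560 :=
  card_stab_octad ho

theorem card_PW_octad {o : Finset GolayPt} (ho : o ∈ octads) : Nat.card (PW o) = 16 :=
  (Cfsg.Agent.S0381.result o ho).1

/-! ### a 2-subgroup fixes an octad -/

/-- the octads as a sub-action of `M24` on finsets -/
def Oct : SubMulAction ↥M24 (Finset GolayPt) where
  carrier := octads
  smul_mem' g _ ho := smul_mem_octads g.2 ho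

theorem card_Oct : Nat.card ↥Oct = 759 := by
  have : Nat.card ↥Oct = Nat.card ↥(octads : Set (Finset GolayPt)) := rfl
  rw [this, Nat.card_coe_set_eq, ncard_octads]

theorem exists_fixed_octad (P : Subgroup ↥M24) (hP : IsPGroup 2 P) :
    ∃ o ∈ octads, ∀ g ∈ P, (g : Equiv.Perm GolayPt) • o = o := by
  have : Fact (Nat.Prime 2) := ⟨Nat.prime_two⟩
  have hne := hP.nonempty_fixed_point_of_prime_not_dvd_card (α := ↥Oct)
    (by rw [card_Oct]; decide)
  obtain ⟨⟨o, ho⟩, hfix⟩ := hne
  refine ⟨o, ho, fun g hg => ?_⟩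
  have := hfix ⟨g, hg⟩
  exact congrArg Subtype.val this

/-- a 2-subgroup of `M24` fixes an octad -/
theorem exists_octad_of_two_group (K : Subgroup (Equiv.Perm GolayPt)) (hK : K ≤ M24) (n : ℕ)
    (hc : Nat.card K = 2 ^ n) : ∃ o ∈ octads, K ≤ SO o := by
  have hP : IsPGroup 2 (K.subgroupOf M24) := by
    apply IsPGroup.of_card (n := n)
    rw [Nat.card_congr (Subgroup.subgroupOfEquivOfLe hK).toEquiv, hc]
  obtain ⟨o, ho, hfix⟩ := exists_fixed_octad _ hP
  refine ⟨o, ho, fun g hg => mem_SO.mpr ⟨hK hg, ?_⟩⟩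
  exact hfix ⟨g, hK hg⟩ (Subgroup.mem_subgroupOf.mpr hg)

/-- a subgroup of order `2^10` of an octad stabiliser contains the pointwise stabiliser -/
theorem PW_le_of_card {o : Finset GolayPt} (ho : o ∈ octads) (K : Subgroup (Equiv.Perm GolayPt))
    (hK : K ≤ SO o) (hc : Nat.card K = 1024) : PW o ≤ K := by
  have : Fact (Nat.Prime 2) := ⟨Nat.prime_two⟩
  have hK' : K ≤ M24 ⊓ MulAction.stabilizer (Equiv.Perm GolayPt) o := hK
  have hNc : Nat.card (restr o).ker = 16 := by
    rw [restr_ker, Nat.card_congr (Subgroup.subgroupOfEquivOfLe (fix_le_stab o)).toEquiv]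
    exact (Cfsg.Agent.S0381.result o ho).1
  have hN : IsPGroup 2 (restr o).ker := IsPGroup.of_card (n := 4) (by rw [hNc]; norm_num)
  have hPc : Nat.card (K.subgroupOf (M24 ⊓ MulAction.stabilizer (Equiv.Perm GolayPt) o)) = 1024 := by
    rw [Nat.card_congr (Subgroup.subgroupOfEquivOfLe hK').toEquiv, hc]
  have hP : IsPGroup 2 (K.subgroupOf (M24 ⊓ MulAction.stabilizer (Equiv.Perm GolayPt) o)) :=
    IsPGroup.of_card (n := 10) (by rw [hPc]; norm_num)
  have hidx : ¬ 2 ∣ (K.subgroupOf (M24 ⊓ MulAction.stabilizer (Equiv.Perm GolayPt) o)).index := by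
    have h := Subgroup.index_mul_card
      (K.subgroupOf (M24 ⊓ MulAction.stabilizer (Equiv.Perm GolayPt) o))
    rw [hPc, card_stab_octad ho] at h
    omega
  have hle := hN.le_sylow_of_normal (hP.toSylow hidx)
  intro e he
  have he' : e ∈ M24 ⊓ MulAction.stabilizer (Equiv.Perm GolayPt) o := fix_le_stab o he
  have h1 : (⟨e, he'⟩ : ↥(M24 ⊓ MulAction.stabilizer (Equiv.Perm GolayPt) o)) ∈ (restr o).ker := by
    rw [restr_ker, Subgroup.mem_subgroupOf]
    exact he
  have h2 := hle h1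
  have h3 : (⟨e, he'⟩ : ↥(M24 ⊓ MulAction.stabilizer (Equiv.Perm GolayPt) o)) ∈
      K.subgroupOf (M24 ⊓ MulAction.stabilizer (Equiv.Perm GolayPt) o) := h2
  rw [Subgroup.mem_subgroupOf] at h3
  exact h3

/-- the pointwise stabiliser of an octad is transitive on the complement -/
theorem exists_PW_octad_map {o : Finset GolayPt} (ho : o ∈ octads) {p q : GolayPt}
    (hp : p ∉ o) (hq : q ∉ o) : ∃ f ∈ PW o, f p = q :=
  Cfsg.Agent.S1554.exists_fix_octad_map ho hp hq

/-- the octad stabiliser is transitive on the octad -/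
theorem exists_SO_map {o : Finset GolayPt} (ho : o ∈ octads) {x x' : GolayPt} (hx : x ∈ o)
    (hx' : x' ∈ o) : ∃ g ∈ SO o, g x = x' := by
  obtain ⟨g, hg, hgo, hmap⟩ := exists_map_octad_list ho ho [x] [x'] (List.nodup_singleton _)
    (List.nodup_singleton _) rfl (by simp) (by simpa using hx) (by simpa using hx')
  exact ⟨g, mem_SO.mpr ⟨hg, hgo⟩, by simpa using hmap⟩

theorem card_SO_stab_in {o : Finset GolayPt} (ho : o ∈ octads) {x : GolayPt} (hx : x ∈ o) :
    Nat.card ↥(SO o ⊓ MulAction.stabilizer (Equiv.Perm GolayPt) x) = 40320 := by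
  have h := card_of_orbit_eq (SO o) x o (fun g hg => (SO_apply_mem hg x).mpr hx)
    (fun δ hδ => exists_SO_map ho hx hδ)
  rw [card_SO ho, ho.2] at h
  omega

theorem card_SO_stab_out {o : Finset GolayPt} (ho : o ∈ octads) {y : GolayPt} (hy : y ∉ o) :
    Nat.card ↥(SO o ⊓ MulAction.stabilizer (Equiv.Perm GolayPt) y) = 20160 := by
  have h := card_of_orbit_eq (SO o) y (Finset.univ \ o)
    (fun g hg => by
      rw [Finset.mem_sdiff]
      exact ⟨Finset.mem_univ _, fun h => hy ((SO_apply_mem hg y).mp h)⟩)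
    (fun δ hδ => by
      rw [Finset.mem_sdiff] at hδ
      obtain ⟨f, hf, hfy⟩ := exists_PW_octad_map ho hy hδ.2
      exact ⟨f, PW_le_SO o hf, hfy⟩)
  rw [card_SO ho, Finset.card_sdiff_of_subset (Finset.subset_univ _), Finset.card_univ, card_pts,
    ho.2] at h
  omega

/-- a subgroup of order `2^10` of an octad stabiliser is transitive on the octad -/
theorem exists_two_group_map {o : Finset GolayPt} (ho : o ∈ octads)
    (K : Subgroup (Equiv.Perm GolayPt)) (hK : K ≤ SO o) (hc : Nat.card K = 1024) {x x' : GolayPt}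
    (hx : x ∈ o) (hx' : x' ∈ o) : ∃ g ∈ K, g x = x' := by
  have h1 := card_eq_orbF_mul K x
  have hsub : orbF K x ⊆ o :=
    orbF_subset hx (fun g hg y hy => (SO_apply_mem (hK hg) y).mpr hy)
  have h2 : Nat.card ↥(K ⊓ MulAction.stabilizer (Equiv.Perm GolayPt) x) ∣ 40320 := by
    rw [← card_SO_stab_in ho hx]
    exact Subgroup.card_dvd_of_le (inf_le_inf_right _ hK)
  have h3 : Nat.card ↥(K ⊓ MulAction.stabilizer (Equiv.Perm GolayPt) x) ∣ 1024 := by
    rw [← hc]
    exact Subgroup.card_dvd_of_le inf_le_left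
  have h4 : Nat.card ↥(K ⊓ MulAction.stabilizer (Equiv.Perm GolayPt) x) ∣ 128 :=
    Nat.dvd_gcd h2 h3
  have h5 : Nat.card ↥(K ⊓ MulAction.stabilizer (Equiv.Perm GolayPt) x) ≤ 128 :=
    Nat.le_of_dvd (by norm_num) h4
  have h6 : (orbF K x).card ≤ 8 := by
    rw [← ho.2]; exact Finset.card_le_card hsub
  have h7 : 8 ≤ (orbF K x).card := by
    rw [hc] at h1
    by_contra hlt
    have : (orbF K x).card * Nat.card ↥(K ⊓ MulAction.stabilizer (Equiv.Perm GolayPt) x) ≤
        7 * 128 := Nat.mul_le_mul (by omega) h5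
    omega
  have h8 : orbF K x = o := Finset.eq_of_subset_of_card_le hsub (by rw [ho.2]; exact h7)
  rw [← h8] at hx'
  exact mem_orbF.mp hx'

/-- the dichotomy: a subgroup `H` of `M24` containing a subgroup of order `2^10` of the stabiliser
of the octad `o` either fixes `o` or is transitive on the 24 points -/
theorem le_SO_or_transitive {o : Finset GolayPt} (ho : o ∈ octads)
    (H K : Subgroup (Equiv.Perm GolayPt)) (hH : H ≤ M24) (hKH : K ≤ H) (hK : K ≤ SO o)
    (hc : Nat.card K = 1024) : H ≤ SO o ∨ ∀ a b : GolayPt, ∃ h ∈ H, h a = b := by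
  by_cases hle : H ≤ SO o
  · exact Or.inl hle
  · right
    obtain ⟨h, hh, hno⟩ := SetLike.not_le_iff_exists.mp hle
    have hex : ∃ x ∈ o, h x ∉ o := by
      by_contra hcon
      push Not at hcon
      exact hno (mem_SO_of_forall (hH hh) hcon)
    obtain ⟨x, hx, hhx⟩ := hex
    have key : ∀ a : GolayPt, ∃ g ∈ H, g x = a := by
      intro a
      by_cases ha : a ∈ o
      · obtain ⟨g, hg, e⟩ := exists_two_group_map ho K hK hc hx ha
        exact ⟨g, hKH hg, e⟩
      · obtain ⟨f, hf, e⟩ := exists_PW_octad_map ho hhx ha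
        refine ⟨f * h, H.mul_mem (hKH (PW_le_of_card ho K hK hc hf)) hh, ?_⟩
        rw [Equiv.Perm.mul_apply, e]
    intro a b
    obtain ⟨g₁, hg₁, e₁⟩ := key a
    obtain ⟨g₂, hg₂, e₂⟩ := key b
    refine ⟨g₂ * g₁⁻¹, H.mul_mem hg₂ (H.inv_mem hg₁), ?_⟩
    rw [Equiv.Perm.mul_apply, ← e₁]
    simpa using e₂

/-- the complement `A8` in an octad stabiliser is simple -/
theorem isSimpleGroup_SO_stab {o : Finset GolayPt} (ho : o ∈ octads) {y : GolayPt} (hy : y ∉ o) :
    IsSimpleGroup ↥(SO o ⊓ MulAction.stabilizer (Equiv.Perm GolayPt) y) := by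
  obtain ⟨e⟩ := (Cfsg.Agent.S1554.result o ho y hy).2.2
  have : IsSimpleGroup ↥(alternatingGroup (Fin 8)) :=
    alternatingGroup.isSimpleGroup (by simp)
  exact e.isSimpleGroup

/-- a subgroup of index at most 7 of an octad stabiliser containing the pointwise stabiliser is
the whole octad stabiliser -/
theorem SO_le_of_index_le {o : Finset GolayPt} (ho : o ∈ octads)
    (L : Subgroup (Equiv.Perm GolayPt)) (hL : L ≤ SO o) (hE : PW o ≤ L) (k : ℕ) (hk : k ≤ 7)
    (hidx : 322560 ≤ k * Nat.card L) : SO o ≤ L := by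
  obtain ⟨y, hy⟩ : ∃ y, y ∉ o := by
    by_contra hcon
    push Not at hcon
    have : o = Finset.univ := Finset.eq_univ_iff_forall.mpr hcon
    have h8 := ho.2
    rw [this, Finset.card_univ, card_pts] at h8
    omega
  have hsimple := isSimpleGroup_SO_stab ho hy
  have hrel : L.relIndex (SO o) * Nat.card L = 322560 := by
    have h := Subgroup.index_mul_card (L.subgroupOf (SO o))
    rw [Nat.card_congr (Subgroup.subgroupOfEquivOfLe hL).toEquiv, card_SO ho] at h
    exact h
  have hLpos : 0 < Nat.card L := Nat.card_pos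
  have hrel_le : L.relIndex (SO o) ≤ k := by
    by_contra hlt
    have : (k + 1) * Nat.card L ≤ L.relIndex (SO o) * Nat.card L :=
      Nat.mul_le_mul_right _ (by omega)
    have h2 : (k + 1) * Nat.card L = k * Nat.card L + Nat.card L := by ring
    omega
  have hrel_ne : L.relIndex (SO o) ≠ 0 := by
    intro h0
    rw [h0] at hrel
    omega
  have h1 : L.relIndex (SO o ⊓ MulAction.stabilizer (Equiv.Perm GolayPt) y) ≤ 7 :=
    (Subgroup.relIndex_le_of_le_right inf_le_left hrel_ne).trans (hrel_le.trans hk)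
  have hB : SO o ⊓ MulAction.stabilizer (Equiv.Perm GolayPt) y ≤ L := by
    apply le_of_relIndex_le L _ 7 h1
    rw [card_SO_stab_out ho hy]
    decide
  have hsup := (Cfsg.Agent.S1554.result o ho y hy).2.1
  have : SO o = PW o ⊔ (SO o ⊓ MulAction.stabilizer (Equiv.Perm GolayPt) y) := hsup.symm
  rw [this]
  exact sup_le hE hB

/-! ### the set-up for subgroups of odd index -/

/-- a subgroup of order `2^10` inside a subgroup of `M24` of order divisible by `2^10` -/
theorem exists_two_group (H : Subgroup (Equiv.Perm GolayPt)) (hd : 1024 ∣ Nat.card H) :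
    ∃ K : Subgroup (Equiv.Perm GolayPt), K ≤ H ∧ Nat.card K = 1024 := by
  have : Fact (Nat.Prime 2) := ⟨Nat.prime_two⟩
  obtain ⟨K', hK'⟩ := Sylow.exists_subgroup_card_pow_prime (G := ↥H) 2 (n := 10) (by
    rw [show (2 : ℕ) ^ 10 = 1024 by norm_num]; exact hd)
  refine ⟨K'.map H.subtype, ?_, ?_⟩
  · rintro _ ⟨k, -, rfl⟩
    exact k.2
  · rw [Subgroup.card_map_of_injective H.subtype_injective, hK']
    norm_num

/-- the set-up: a subgroup `H` of `M24` of order divisible by `2^10` contains the pointwise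
stabiliser of an octad `o`, its part fixing `o` is transitive on `o`, and `H` either fixes `o` or
is transitive on the points -/
theorem sylow_setup (H : Subgroup (Equiv.Perm GolayPt)) (hH : H ≤ M24)
    (hd : 1024 ∣ Nat.card H) : ∃ o ∈ octads, PW o ≤ H ∧
      (∀ x ∈ o, ∀ x' ∈ o, ∃ g ∈ H ⊓ SO o, g x = x') ∧
      (H ≤ SO o ∨ ∀ a b : GolayPt, ∃ h ∈ H, h a = b) := by
  obtain ⟨K, hKH, hKc⟩ := exists_two_group H hd
  obtain ⟨o, ho, hKo⟩ := exists_octad_of_two_group K (hKH.trans hH) 10 (by rw [hKc]; norm_num)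
  refine ⟨o, ho, (PW_le_of_card ho K hKo hKc).trans hKH, ?_, le_SO_or_transitive ho H K hH hKH hKo hKc⟩
  intro x hx x' hx'
  obtain ⟨g, hg, e⟩ := exists_two_group_map ho K hKo hKc hx hx'
  exact ⟨g, ⟨hKH hg, hKo hg⟩, e⟩

/-- the orbit of an outside point under the stabiliser of a point of `o` contains the complement
of `o` -/
theorem compl_subset_orbF {o : Finset GolayPt} (ho : o ∈ octads)
    (H : Subgroup (Equiv.Perm GolayPt)) (hE : PW o ≤ H) {x y : GolayPt} (hx : x ∈ o) (hy : y ∉ o) :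
    Finset.univ \ o ⊆ orbF (St H x) y := by
  intro z hz
  rw [Finset.mem_sdiff] at hz
  obtain ⟨f, hf, e⟩ := exists_PW_octad_map ho hy hz.2
  exact mem_orbF.mpr ⟨f, mem_St.mpr ⟨hE hf, (mem_PW.mp hf).2 x hx⟩, e⟩

/-- if the orbit of an outside point under a point stabiliser `H_x` (`x ∈ o`) is exactly the
complement of `o` and `H_x` is large, then `H` contains the octad stabiliser -/
theorem SO_le_of_orbit {o : Finset GolayPt} (ho : o ∈ octads)
    (H : Subgroup (Equiv.Perm GolayPt)) (hH : H ≤ M24) (hE : PW o ≤ H)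
    (htr : ∀ x ∈ o, ∀ x' ∈ o, ∃ g ∈ H ⊓ SO o, g x = x') {x y : GolayPt} (hx : x ∈ o)
    (hR : orbF (St H x) y = Finset.univ \ o) (k : ℕ) (hk : k ≤ 7)
    (hidx : 322560 ≤ k * (8 * Nat.card (St H x))) : SO o ≤ H := by
  have hStSO : St H x ≤ SO o := by
    intro g hg
    have hgH : g ∈ H := (mem_St.mp hg).1
    have hg' : g⁻¹ ∈ St H x := (St H x).inv_mem hg
    -- g preserves the complement of o
    have hinv : ∀ a, a ∉ o → g⁻¹ a ∉ o := by
      intro a ha
      have h1 : a ∈ orbF (St H x) y := by rw [hR, Finset.mem_sdiff]; exact ⟨Finset.mem_univ _, ha⟩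
      have h2 := orbF_invariant (St H x) y g⁻¹ hg' a h1
      rw [hR, Finset.mem_sdiff] at h2
      exact h2.2
    refine mem_SO_of_forall (hH hgH) ?_
    intro a ha
    by_contra hga
    have := hinv (g a) hga
    have e : g⁻¹ (g a) = a := by simp
    rw [e] at this
    exact this ha
  -- the part of `H` fixing `o`
  have hL : H ⊓ SO o ≤ SO o := inf_le_right
  have hEL : PW o ≤ H ⊓ SO o := le_inf hE (PW_le_SO o)
  have hStL : St (H ⊓ SO o) x = St H x := by
    apply le_antisymm (St_mono inf_le_left x)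
    intro g hg
    exact mem_St.mpr ⟨⟨(mem_St.mp hg).1, hStSO hg⟩, (mem_St.mp hg).2⟩
  have horb : orbF (H ⊓ SO o) x = o := by
    apply Finset.Subset.antisymm
    · exact orbF_subset hx (fun g hg a ha => (SO_apply_mem hg.2 a).mpr ha)
    · intro a ha
      obtain ⟨g, hg, e⟩ := htr x hx a ha
      exact mem_orbF.mpr ⟨g, hg, e⟩
  have hcL : Nat.card ↥(H ⊓ SO o) = 8 * Nat.card (St H x) := by
    have h := card_St_mul (H ⊓ SO o) x
    rw [horb, ho.2, hStL] at h
    exact h
  have := SO_le_of_index_le ho (H ⊓ SO o) hL hEL k hk (by rw [hcL]; exact hidx)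
  exact this.trans inf_le_left

end Cfsg.Agent.Lib.Helper6.M24Idx
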