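import Mathlib
import Cfsg.Prelude.Def_SporadicCombinatorics
import Cfsg.Agent.Lib.Helper6.M24Idx.Octad
import Cfsg.Agent.Lib.Helper6.M24Idx.M21

set_option autoImplicit false

/-!
Shared lemmas for the subgroups of odd index 759, 253, 1771 of `M24`: the case where a point
stabiliser has an orbit of size 21, and the flat form of maximality statements.
-/

namespace Cfsg.Agent.Lib.Helper6.M24Idx

open Cfsg Cfsg.Agent.Lib.Helper3.Golay
open scoped Pointwise

/-- flat form of a maximality statement in `↥M24` -/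
theorem eq_or_eq_of_isCoatom (A : Subgroup ↥M24) (hco : IsCoatom A)
    (B : Subgroup (Equiv.Perm GolayPt)) (hAB : ∀ g : ↥M24, g ∈ A ↔ (g : Equiv.Perm GolayPt) ∈ B)
    (H : Subgroup (Equiv.Perm GolayPt)) (hH : H ≤ M24) (hle : M24 ⊓ B ≤ H) :
    H = M24 ⊓ B ∨ H = M24 := by
  have hAb : A ≤ H.subgroupOf M24 := by
    intro g hg
    rw [Subgroup.mem_subgroupOf]
    exact hle ⟨g.2, (hAB g).mp hg⟩
  rcases eq_or_lt_of_le hAb with heq | hlt
  · left
    apply le_antisymm _ hle
    intro h hh
    refine ⟨hH hh, ?_⟩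
    have : (⟨h, hH hh⟩ : ↥M24) ∈ H.subgroupOf M24 := Subgroup.mem_subgroupOf.mpr hh
    rw [← heq] at this
    exact (hAB _).mp this
  · right
    have := hco.2 _ hlt
    rw [Subgroup.subgroupOf_eq_top] at this
    exact le_antisymm hH this

/-- if a subgroup `K` fixing `x` has an invariant set `R` of 21 points not containing `x`, the two
remaining points form an invariant pair -/
theorem two_left (K : Subgroup (Equiv.Perm GolayPt)) (hK : K ≤ M24) (x : GolayPt)
    (hKx : ∀ g ∈ K, g x = x) (R : Finset GolayPt) (hRinv : ∀ g ∈ K, ∀ a ∈ R, g a ∈ R)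
    (hxR : x ∉ R) (hcard : R.card = 21) :
    ∃ w w' : GolayPt, w ≠ w' ∧ w ≠ x ∧ w' ≠ x ∧ w ∉ R ∧ w' ∉ R ∧
      (∀ a, a ∉ R → a = x ∨ a = w ∨ a = w') ∧ K ≤ SO {w, w'} := by
  classical
  have hinv2 : ∀ g ∈ K, ∀ a ∈ insert x R, g a ∈ insert x R := by
    intro g hg a ha
    rcases Finset.mem_insert.mp ha with rfl | ha
    · rw [hKx g hg]; exact Finset.mem_insert_self _ _
    · exact Finset.mem_insert_of_mem (hRinv g hg a ha)
  have hWinv := compl_invariant hinv2
  have hWcard : (Finset.univ \ insert x R).card = 2 := by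
    rw [Finset.card_sdiff_of_subset (Finset.subset_univ _), Finset.card_univ, card_pts,
      Finset.card_insert_of_notMem hxR, hcard]
  obtain ⟨w, w', hww', hW⟩ := Finset.card_eq_two.mp hWcard
  have hmemW : ∀ a, a ∈ Finset.univ \ insert x R ↔ a = w ∨ a = w' := by
    intro a
    rw [hW]; simp
  have hw : w ∈ Finset.univ \ insert x R := (hmemW w).mpr (Or.inl rfl)
  have hw' : w' ∈ Finset.univ \ insert x R := (hmemW w').mpr (Or.inr rfl)
  rw [Finset.mem_sdiff, Finset.mem_insert, not_or] at hw hw'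
  refine ⟨w, w', hww', hw.2.1, hw'.2.1, hw.2.2, hw'.2.2, ?_, ?_⟩
  · intro a ha
    by_cases hax : a = x
    · exact Or.inl hax
    · right
      apply (hmemW a).mp
      rw [Finset.mem_sdiff, Finset.mem_insert, not_or]
      exact ⟨Finset.mem_univ _, hax, ha⟩
  · intro g hg
    apply mem_SO_of_forall (hK hg)
    intro a ha
    rw [← hW] at ha ⊢
    exact hWinv g hg a ha

/-- an element fixing `x` and `w` and preserving `{w, w'}` fixes `{x, w, w'}` pointwise -/
theorem mem_PW_three_of {g : Equiv.Perm GolayPt} {x w w' : GolayPt} (hg : g ∈ M24)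
    (hx : g x = x) (hw : g w = w) (hww' : w ≠ w') (hpair : g ∈ SO {w, w'}) :
    g ∈ PW {x, w, w'} := by
  refine mem_PW.mpr ⟨hg, ?_⟩
  intro a ha
  simp only [Finset.mem_insert, Finset.mem_singleton] at ha
  rcases ha with rfl | rfl | rfl
  · exact hx
  · exact hw
  · have h1 : g a ∈ ({w, a} : Finset GolayPt) := (SO_apply_mem hpair a).mpr (by simp)
    rcases Finset.mem_insert.mp h1 with h2 | h2
    · exact absurd (g.injective (h2.trans hw.symm)) (Ne.symm hww')
    · exact Finset.mem_singleton.mp h2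

theorem card_three {x w w' : GolayPt} (hwx : w ≠ x) (hw'x : w' ≠ x) (hww' : w ≠ w') :
    ({x, w, w'} : Finset GolayPt).card = 3 := by
  rw [Finset.card_insert_of_notMem, Finset.card_pair hww']
  simp only [Finset.mem_insert, Finset.mem_singleton, not_or]
  exact ⟨Ne.symm hwx, Ne.symm hw'x⟩

end Cfsg.Agent.Lib.Helper6.M24Idx
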