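import Mathlib
import Cfsg.Prelude.Def_SporadicCombinatorics
import Cfsg.Agent.Lib.Helper6.M24Idx.Odd

set_option autoImplicit false

/-!
A subgroup of index 759 of `M24` (order 322560) is the stabiliser of an octad.
-/

namespace Cfsg.Agent.Lib.Helper6.M24Idx

open Cfsg Cfsg.Agent.Lib.Helper3.Golay
open scoped Pointwise

theorem exists_mem_not_mem_octad {o : Finset GolayPt} (ho : o ∈ octads) :
    (∃ x, x ∈ o) ∧ ∃ y, y ∉ o := by
  constructor
  · have : o.Nonempty := Finset.card_pos.mp (by rw [ho.2]; norm_num)
    exact this
  · by_contra hcon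
    push Not at hcon
    have : o = Finset.univ := Finset.eq_univ_iff_forall.mpr hcon
    have h8 := ho.2
    rw [this, Finset.card_univ, card_pts] at h8
    omega

/-- bounds for the orbit of an outside point under `H_x` -/
theorem orbit_bounds {o : Finset GolayPt} (ho : o ∈ octads)
    (H : Subgroup (Equiv.Perm GolayPt)) (hE : PW o ≤ H) {x y : GolayPt} (hx : x ∈ o) (hy : y ∉ o) :
    16 ≤ (orbF (St H x) y).card ∧ (orbF (St H x) y).card ≤ 23 ∧
      ((orbF (St H x) y).card = 16 → orbF (St H x) y = Finset.univ \ o) := by
  have hyx : y ≠ x := fun e => hy (e ▸ hx)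
  have hsub := compl_subset_orbF ho H hE hx hy
  have hc : (Finset.univ \ o).card = 16 := by
    rw [Finset.card_sdiff_of_subset (Finset.subset_univ _), Finset.card_univ, card_pts, ho.2]
  refine ⟨hc ▸ Finset.card_le_card hsub, ?_, ?_⟩
  · have h1 : orbF (St H x) y ⊆ Finset.univ.erase x := by
      intro a ha
      rw [Finset.mem_erase]
      refine ⟨?_, Finset.mem_univ _⟩
      rintro rfl
      exact not_mem_orbF_St hyx ha
    have := Finset.card_le_card h1
    rw [Finset.card_erase_of_mem (Finset.mem_univ _), Finset.card_univ, card_pts] at this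
    exact this
  · intro h16
    exact (Finset.eq_of_subset_of_card_le hsub (by rw [h16, hc])).symm

theorem idx759 (H : Subgroup (Equiv.Perm GolayPt)) (hH : H ≤ M24) (hc : Nat.card H = 322560) :
    ∃ o ∈ octads, H = SO o := by
  classical
  obtain ⟨o, ho, hE, htro, hdich⟩ := sylow_setup H hH (by rw [hc]; norm_num)
  refine ⟨o, ho, ?_⟩
  rcases hdich with hle | htr
  · exact eq_of_le_of_card_le hle (by rw [card_SO ho, hc])
  · obtain ⟨⟨x, hx⟩, ⟨y, hy⟩⟩ := exists_mem_not_mem_octad ho
    have hyx : y ≠ x := fun e => hy (e ▸ hx)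
    have hcx : Nat.card (St H x) = 13440 := by
      have := card_St_of_transitive H htr x
      omega
    have hHx : St H x ≤ M24 := (St_le H x).trans hH
    set R := orbF (St H x) y with hR
    have hRinv : ∀ g ∈ St H x, ∀ a ∈ R, g a ∈ R := orbF_invariant (St H x) y
    obtain ⟨hb1, hb2, hb3⟩ := orbit_bounds ho H hE hx hy
    rw [← hR] at hb1 hb2 hb3
    have hdvd : R.card ∣ 13440 := hcx ▸ card_orbF_dvd (St H x) y
    obtain ⟨r7, hr7, hmod7⟩ := card_mod_seven (St H x) hHx (by rw [hcx]; norm_num) {x} R
      (St_fix H x) hRinv (disjoint_orbF_St hyx)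
    rw [Finset.card_singleton] at hr7
    have hcases : R.card = 16 ∨ R.card = 21 := by
      generalize R.card = n at *
      interval_cases n <;> omega
    rcases hcases with h16 | h21
    · have hSO : SO o ≤ H := SO_le_of_orbit ho H hH hE htro hx (hb3 h16) 3 (by norm_num)
        (by rw [hcx])
      exact (eq_of_le_of_card_le hSO (by rw [card_SO ho, hc])).symm
    · exfalso
      obtain ⟨w, w', hww', hwx, hw'x, hwR, hw'R, hall, hpair⟩ :=
        two_left (St H x) hHx x (fun g hg => (mem_St.mp hg).2) R hRinv
          (not_mem_orbF_St hyx) h21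
      have h1 := card_St_mul (St H x) w
      have hsub : orbF (St H x) w ⊆ {w, w'} :=
        orbF_subset (by simp) (fun g hg a ha => (SO_apply_mem (hpair hg) a).mpr ha)
      have h2 : (orbF (St H x) w).card ≤ 2 :=
        (Finset.card_le_card hsub).trans (by rw [Finset.card_pair hww'])
      have h2' : 1 ≤ (orbF (St H x) w).card := Finset.card_pos.mpr ⟨w, self_mem_orbF _ _⟩
      have hT : ({x, w, w'} : Finset GolayPt).card = 3 := card_three hwx hw'x hww'
      have h3 : St (St H x) w ≤ PW {x, w, w'} := by
        intro g hg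
        obtain ⟨hg1, hgw⟩ := mem_St.mp hg
        exact mem_PW_three_of (hHx hg1) (mem_St.mp hg1).2 hgw hww' (hpair hg1)
      have h4 : Nat.card (St (St H x) w) ∣ 20160 := by
        rw [← card_PW_three hT]
        exact Subgroup.card_dvd_of_le h3
      have h5 : Nat.card (St (St H x) w) = 6720 := by
        rw [hcx] at h1
        generalize (orbF (St H x) w).card = c at *
        generalize Nat.card (St (St H x) w) = m at *
        interval_cases c
        · have hm : m = 13440 := by omega
          subst hm
          omega
        · omega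
      have hsimple := isSimpleGroup_PW_three hT
      have hrel : (St (St H x) w).relIndex (PW {x, w, w'}) * Nat.card (St (St H x) w) = 20160 := by
        have h := Subgroup.index_mul_card ((St (St H x) w).subgroupOf (PW {x, w, w'}))
        rw [Nat.card_congr (Subgroup.subgroupOfEquivOfLe h3).toEquiv, card_PW_three hT] at h
        exact h
      have hrel3 : (St (St H x) w).relIndex (PW {x, w, w'}) ≤ 3 := by
        rw [h5] at hrel
        omega
      have h6 : PW {x, w, w'} ≤ St (St H x) w := by
        apply le_of_relIndex_le _ _ 3 hrel3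
        rw [card_PW_three hT]
        decide
      have h7 := Subgroup.card_dvd_of_le h6
      rw [card_PW_three hT, h5] at h7
      omega

end Cfsg.Agent.Lib.Helper6.M24Idx
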