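import Mathlib
import Cfsg.Prelude.Def_SporadicCombinatorics
import Cfsg.Agent.Lib.Helper6.M24Idx.Basic
import Cfsg.Agent.Lib.Helper10.SextetA

set_option autoImplicit false

/-!
Flat facts on sextet stabilisers in `M24`: order, transitivity on points, and enough elements
fixing two points in different tetrads.
-/

namespace Cfsg.Agent.Lib.Helper6.M24Idx

open Cfsg Cfsg.Agent.Lib.Helper3.Golay Cfsg.Agent.Lib.Helper28.GolayCode
open Cfsg.Agent.Lib.Helper10.Sextet
open scoped Pointwise

/-- the stabiliser in `M24` of a family of sets of points, flat -/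
def SS (S : Finset (Finset GolayPt)) : Subgroup (Equiv.Perm GolayPt) :=
  M24 ⊓ MulAction.stabilizer (Equiv.Perm GolayPt) S

theorem mem_SS {S : Finset (Finset GolayPt)} {g : Equiv.Perm GolayPt} :
    g ∈ SS S ↔ g ∈ M24 ∧ g • S = S := by
  unfold SS
  constructor
  · intro h
    exact ⟨h.1, MulAction.mem_stabilizer_iff.mp h.2⟩
  · intro h
    exact ⟨h.1, MulAction.mem_stabilizer_iff.mpr h.2⟩

theorem SS_le (S : Finset (Finset GolayPt)) : SS S ≤ M24 := inf_le_left

/-- the flat stabiliser versus the stabiliser in `↥M24` -/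
def ssEquiv (S : Finset (Finset GolayPt)) : ↥(SS S) ≃ ↥(MulAction.stabilizer M24 S) where
  toFun g := ⟨⟨g.1, (mem_SS.mp g.2).1⟩, MulAction.mem_stabilizer_iff.mpr (mem_SS.mp g.2).2⟩
  invFun k := ⟨k.1.1, mem_SS.mpr ⟨k.1.2, MulAction.mem_stabilizer_iff.mp k.2⟩⟩
  left_inv _ := rfl
  right_inv _ := rfl

theorem card_SS {S : Finset (Finset GolayPt)} (hS : S ∈ sextets) : Nat.card (SS S) = 138240 := by
  rw [Nat.card_congr (ssEquiv S), card_stabilizer_sextet hS]

theorem mem_smul_iff {h : Equiv.Perm GolayPt} {U : Finset GolayPt} {a : GolayPt} :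
    a ∈ h • U ↔ h⁻¹ a ∈ U := by
  rw [← Finset.inv_smul_mem_iff]
  rfl

/-- the tetrads of a sextet cover the points -/
theorem exists_tetrad {S : Finset (Finset GolayPt)} (hS : S ∈ sextets) (p : GolayPt) :
    ∃ t ∈ S, p ∈ t := by
  classical
  by_contra hcon
  push Not at hcon
  have hdisj : (S : Set (Finset GolayPt)).PairwiseDisjoint id := by
    intro t ht u hu hne
    exact tetrad_disjoint hS ht hu hne
  have hcard : (S.biUnion id).card = 24 := by
    rw [Finset.card_biUnion hdisj]
    have : ∀ t ∈ S, (id t : Finset GolayPt).card = 4 := fun t ht => hS.2.1 t ht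
    rw [Finset.sum_congr rfl this, Finset.sum_const, hS.1]
    rfl
  have hsub : S.biUnion id ⊆ Finset.univ.erase p := by
    intro a ha
    rw [Finset.mem_biUnion] at ha
    obtain ⟨t, ht, hat⟩ := ha
    rw [Finset.mem_erase]
    refine ⟨?_, Finset.mem_univ _⟩
    rintro rfl
    exact hcon t ht hat
  have := Finset.card_le_card hsub
  rw [hcard, Finset.card_erase_of_mem (Finset.mem_univ _), Finset.card_univ, card_pts] at this
  omega

/-- the stabiliser of a sextet is transitive on the points -/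
theorem exists_SS_map {S : Finset (Finset GolayPt)} (hS : S ∈ sextets) (p q : GolayPt) :
    ∃ σ ∈ SS S, σ p = q := by
  classical
  obtain ⟨t, ht, hpt⟩ := exists_tetrad hS p
  obtain ⟨t', ht', hqt'⟩ := exists_tetrad hS q
  have hnd : ∀ (s : Finset GolayPt) (a : GolayPt), (a :: (s.erase a).toList).Nodup := by
    intro s a
    rw [List.nodup_cons]
    refine ⟨?_, Finset.nodup_toList _⟩
    rw [Finset.mem_toList]
    exact Finset.notMem_erase a s
  have hlen : ∀ (s : Finset GolayPt) (a : GolayPt), a ∈ s → s.card = 4 →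
      (a :: (s.erase a).toList).length = 4 := by
    intro s a ha hs
    rw [List.length_cons, Finset.length_toList, Finset.card_erase_of_mem ha, hs]
  obtain ⟨σ, hσ, hmap⟩ := exists_map_list (p :: (t.erase p).toList) (q :: (t'.erase q).toList)
    (hnd t p) (hnd t' q) (by rw [hlen t p hpt (hS.2.1 t ht), hlen t' q hqt' (hS.2.1 t' ht')])
    (by rw [hlen t p hpt (hS.2.1 t ht)]; norm_num)
  rw [List.map_cons, List.cons.injEq] at hmap
  obtain ⟨hσp, hrest⟩ := hmap
  have hσt : σ • t = t' := by
    have h1 : σ • (t.erase p) = t'.erase q := by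
      rw [← toFinset_map_toList, hrest, Finset.toList_toFinset]
    rw [← Finset.insert_erase hpt, Finset.smul_finset_insert, h1]
    have : σ • p = q := hσp
    rw [this, Finset.insert_erase hqt']
  exact ⟨σ, mem_SS.mpr ⟨hσ, stab_of_smul_mem hS hσ ht (hσt ▸ ht')⟩, hσp⟩

theorem card_St_SS {S : Finset (Finset GolayPt)} (hS : S ∈ sextets) (x : GolayPt) :
    Nat.card (St (SS S) x) = 5760 := by
  have := card_St_of_transitive (SS S) (fun a b => exists_SS_map hS a b) x
  rw [card_SS hS] at this
  omega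

/-- elements of the sextet stabiliser fixing two points `x`, `u` in different tetrads `t₁`, `t₂`
are transitive on the sixteen points outside `t₁ ∪ t₂` -/
theorem exists_SS_fix_map {S : Finset (Finset GolayPt)} (hS : S ∈ sextets)
    {t₁ t₂ : Finset GolayPt} (ht₁ : t₁ ∈ S) (ht₂ : t₂ ∈ S) (hne : t₁ ≠ t₂) {x u c c' : GolayPt}
    (hx : x ∈ t₁) (hu : u ∈ t₂) (hc : c ∉ t₁ ∪ t₂) (hc' : c' ∉ t₁ ∪ t₂) :
    ∃ n ∈ SS S, n x = x ∧ n u = u ∧ n c = c' := by
  classical
  have ho : t₁ ∪ t₂ ∈ octads := hS.2.2 t₁ ht₁ t₂ ht₂ hne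
  have hdisj := tetrad_disjoint hS ht₁ ht₂ hne
  have hut₁ : u ∉ t₁ := fun h => Finset.disjoint_left.mp hdisj h hu
  have hnd : ∀ e, e ∉ t₁ ∪ t₂ → ((t₁.toList ++ [u]) ++ [e]).Nodup := by
    intro e he
    rw [Finset.mem_union, not_or] at he
    rw [List.nodup_append]
    refine ⟨?_, List.nodup_singleton e, ?_⟩
    · rw [List.nodup_append]
      refine ⟨Finset.nodup_toList _, List.nodup_singleton u, ?_⟩
      intro a ha b hb
      rw [List.mem_singleton] at hb
      rw [Finset.mem_toList] at ha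
      rintro rfl
      exact hut₁ (hb ▸ ha)
    · intro a ha b hb
      rw [List.mem_singleton] at hb
      rw [List.mem_append, Finset.mem_toList, List.mem_singleton] at ha
      rintro rfl
      rcases ha with ha | ha
      · exact he.1 (hb ▸ ha)
      · exact he.2 (hb ▸ ha ▸ hu)
  have hlen : (t₁.toList ++ [u]).length = 5 := by
    rw [List.length_append, Finset.length_toList, hS.2.1 t₁ ht₁]; rfl
  have hlo : ∀ p ∈ t₁.toList ++ [u], p ∈ t₁ ∪ t₂ := by
    intro p hp
    rw [List.mem_append, Finset.mem_toList, List.mem_singleton] at hp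
    rcases hp with hp | rfl
    · exact Finset.mem_union_left _ hp
    · exact Finset.mem_union_right _ hu
  obtain ⟨g, hg, -, hmap, hgc⟩ := exists_map_six ho ho (t₁.toList ++ [u]) (t₁.toList ++ [u]) c c'
    (hnd c hc) (hnd c' hc') hlen hlen hlo hlo (by simp [hc, hc'])
  have hfix := map_eq_self hmap
  have hgt₁ : g • t₁ = t₁ := by
    apply Finset.eq_of_subset_of_card_le
    · intro a ha
      rw [Finset.mem_smul_finset] at ha
      obtain ⟨b, hb, rfl⟩ := ha
      have : g b = b := hfix b (by simp [hb])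
      rw [Equiv.Perm.smul_def, this]
      exact hb
    · rw [Finset.card_smul_finset]
  refine ⟨g, mem_SS.mpr ⟨hg, stab_of_smul_mem hS hg ht₁ (hgt₁.symm ▸ ht₁)⟩, ?_, ?_, hgc⟩
  · exact hfix x (by simp [hx])
  · exact hfix u (by simp)

end Cfsg.Agent.Lib.Helper6.M24Idx
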