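import Mathlib
import Cfsg.Prelude.Def_SporadicCombinatorics
import Cfsg.Agent.Lib.Helper6.M24Idx.I759
import Cfsg.Agent.Lib.Helper6.M24Idx.Sextet

set_option autoImplicit false

/-!
A subgroup of index 1771 of `M24` (order 138240) is the stabiliser of a sextet.
-/

namespace Cfsg.Agent.Lib.Helper6.M24Idx

open Cfsg Cfsg.Agent.Lib.Helper3.Golay Cfsg.Agent.Lib.Helper28.GolayCode
open Cfsg.Agent.Lib.Helper10.Sextet
open scoped Pointwise

/-- an element preserving a finset setwise, in terms of the action on finsets -/
theorem smul_eq_of_forall {g : Equiv.Perm GolayPt} {U : Finset GolayPt}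
    (h : ∀ a ∈ U, g a ∈ U) : g • U = U := by
  apply Finset.eq_of_subset_of_card_le
  · intro y hy
    rw [Finset.mem_smul_finset] at hy
    obtain ⟨x, hx, rfl⟩ := hy
    exact h x hx
  · rw [Finset.card_smul_finset]

theorem apply_mem_of_smul_eq {g : Equiv.Perm GolayPt} {U : Finset GolayPt} (h : g • U = U)
    {a : GolayPt} (ha : a ∈ U) : g a ∈ U := by
  have : g a ∈ g • U := Finset.smul_mem_smul_finset (a := g) ha
  rwa [h] at this

/-- the hypotheses of the sextet case: `H` is transitive with point stabilisers of order 5760, and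
`H_x` has an invariant 4-set `U ∋ x` with transitive complement -/
structure SextetCase (H : Subgroup (Equiv.Perm GolayPt)) (x : GolayPt) (U : Finset GolayPt) :
    Prop where
  le : H ≤ M24
  tr : ∀ a b : GolayPt, ∃ h ∈ H, h a = b
  cu : ∀ u, Nat.card (St H u) = 5760
  xU : x ∈ U
  U4 : U.card = 4
  inv : ∀ g ∈ St H x, ∀ a ∈ U, g a ∈ U
  out : ∀ a b, a ∉ U → b ∉ U → ∃ k ∈ St H x, k a = b

namespace SextetCase

variable {H : Subgroup (Equiv.Perm GolayPt)} {x : GolayPt} {U : Finset GolayPt}

/-- conjugating to another point: invariance of the translate -/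
theorem inv_conj (hC : SextetCase H x U) {h : Equiv.Perm GolayPt} (hh : h ∈ H) :
    ∀ k ∈ St H (h x), ∀ a ∈ h • U, k a ∈ h • U := by
  intro k hk a ha
  obtain ⟨hkH, hkx⟩ := mem_St.mp hk
  have h1 : h⁻¹ * k * h ∈ St H x := by
    refine mem_St.mpr ⟨H.mul_mem (H.mul_mem (H.inv_mem hh) hkH) hh, ?_⟩
    simp only [Equiv.Perm.mul_apply]
    rw [hkx]; simp
  rw [mem_smul_iff] at ha ⊢
  have := hC.inv _ h1 _ ha
  simpa [Equiv.Perm.mul_apply] using this

/-- conjugating to another point: transitivity outside the translate -/
theorem out_conj (hC : SextetCase H x U) {h : Equiv.Perm GolayPt} (hh : h ∈ H) :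
    ∀ a b, a ∉ h • U → b ∉ h • U → ∃ k ∈ St H (h x), k a = b := by
  intro a b ha hb
  rw [mem_smul_iff] at ha hb
  obtain ⟨k, hk, e⟩ := hC.out _ _ ha hb
  obtain ⟨hkH, hkx⟩ := mem_St.mp hk
  refine ⟨h * k * h⁻¹, mem_St.mpr ⟨H.mul_mem (H.mul_mem hh hkH) (H.inv_mem hh), ?_⟩, ?_⟩
  · simp only [Equiv.Perm.mul_apply]
    simp [hkx]
  · simp only [Equiv.Perm.mul_apply]
    rw [e]; simp

/-- the block property -/
theorem block (hC : SextetCase H x U) {h : Equiv.Perm GolayPt} (hh : h ∈ H) (hhx : h x ∈ U) :
    h • U = U := by
  classical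
  by_cases hux : h x = x
  · exact smul_eq_of_forall (hC.inv h (mem_St.mpr ⟨hh, hux⟩))
  set u := h x with hu
  have hU'4 : (h • U).card = 4 := by rw [Finset.card_smul_finset]; exact hC.U4
  have huU' : u ∈ h • U := Finset.smul_mem_smul_finset (a := h) hC.xU
  have hinv' := hC.inv_conj hh
  have hout' := hC.out_conj hh
  rw [← hu] at hinv' hout'
  -- the two-point stabiliser
  have hL1 := card_St_mul (St H x) u
  have hsub : orbF (St H x) u ⊆ U.erase x := by
    apply orbF_subset (Finset.mem_erase.mpr ⟨hux, hhx⟩)
    intro g hg a ha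
    rw [Finset.mem_erase] at ha ⊢
    refine ⟨?_, hC.inv g hg a ha.2⟩
    intro e
    exact ha.1 (g.injective (e.trans (mem_St.mp hg).2.symm))
  have horb3 : (orbF (St H x) u).card ≤ 3 := by
    have := Finset.card_le_card hsub
    rw [Finset.card_erase_of_mem hC.xU, hC.U4] at this
    exact this
  have hLc : 1920 ≤ Nat.card (St (St H x) u) := by
    rw [hC.cu x] at hL1
    by_contra hlt
    have : (orbF (St H x) u).card * Nat.card (St (St H x) u) ≤ 3 * 1919 :=
      Nat.mul_le_mul horb3 (by omega)
    omega
  -- `x` lies in the translate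
  have hxU' : x ∈ h • U := by
    by_contra hxn
    have h1 := card_St_mul (St H u) x
    rw [hC.cu u, St_comm H u x] at h1
    have hbig : Finset.univ \ (h • U) ⊆ orbF (St H u) x := by
      intro a ha
      rw [Finset.mem_sdiff] at ha
      obtain ⟨k, hk, e⟩ := hout' x a hxn ha.2
      exact mem_orbF.mpr ⟨k, hk, e⟩
    have h2 := Finset.card_le_card hbig
    rw [Finset.card_sdiff_of_subset (Finset.subset_univ _), Finset.card_univ, card_pts, hU'4] at h2
    have : 20 * 1920 ≤ (orbF (St H u) x).card * Nat.card (St (St H x) u) :=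
      Nat.mul_le_mul h2 hLc
    omega
  -- every point of the translate lies in `U`
  have hsubU : h • U ⊆ U := by
    intro a' ha'
    by_contra ha'U
    have ha'x : a' ≠ x := fun e => ha'U (e ▸ hC.xU)
    have ha'u : a' ≠ u := fun e => ha'U (e ▸ hhx)
    set L := St (St H x) u with hL
    have hLx : ∀ g ∈ L, g x = x := fun g hg => (mem_St.mp (mem_St.mp hg).1).2
    have hLu : ∀ g ∈ L, g u = u := fun g hg => (mem_St.mp hg).2
    have hLH : ∀ g ∈ L, g ∈ H := fun g hg => (mem_St.mp (mem_St.mp hg).1).1
    have hLU' : ∀ g ∈ L, ∀ a ∈ h • U, g a ∈ h • U := fun g hg a ha =>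
      hinv' g (mem_St.mpr ⟨hLH g hg, hLu g hg⟩) a ha
    -- the orbit of `a'` under `L`
    have h1 := card_St_mul L a'
    have hsub2 : orbF L a' ⊆ ((h • U).erase x).erase u := by
      apply orbF_subset (Finset.mem_erase.mpr ⟨ha'u, Finset.mem_erase.mpr ⟨ha'x, ha'⟩⟩)
      intro g hg a ha
      rw [Finset.mem_erase, Finset.mem_erase] at ha ⊢
      refine ⟨?_, ?_, hLU' g hg a ha.2.2⟩
      · intro e
        exact ha.1 (g.injective (e.trans (hLu g hg).symm))
      · intro e
        exact ha.2.1 (g.injective (e.trans (hLx g hg).symm))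
    have horb2 : (orbF L a').card ≤ 2 := by
      have := Finset.card_le_card hsub2
      rw [Finset.card_erase_of_mem (Finset.mem_erase.mpr ⟨hux, huU'⟩),
        Finset.card_erase_of_mem hxU', hU'4] at this
      exact this
    have hc960 : 960 ≤ Nat.card (St L a') := by
      by_contra hlt
      have : (orbF L a').card * Nat.card (St L a') ≤ 2 * 959 := Nat.mul_le_mul horb2 (by omega)
      omega
    -- `St L a'` fixes the translate pointwise
    have hle : St L a' ≤ PW (h • U) := by
      intro g hg
      obtain ⟨hgL, hga'⟩ := mem_St.mp hg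
      refine mem_PW.mpr ⟨hC.le (hLH g hgL), ?_⟩
      -- the three fixed points
      have hthree : ({x, u, a'} : Finset GolayPt) ⊆ h • U := by
        intro a ha
        simp only [Finset.mem_insert, Finset.mem_singleton] at ha
        rcases ha with rfl | rfl | rfl
        · exact hxU'
        · exact huU'
        · exact ha'
      have hthree_card : ({x, u, a'} : Finset GolayPt).card = 3 :=
        card_three (fun e => hux e) ha'x (Ne.symm ha'u)
      have hrest : ((h • U) \ {x, u, a'}).card = 1 := by
        rw [Finset.card_sdiff_of_subset hthree, hU'4, hthree_card]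
      obtain ⟨b', hb'⟩ := Finset.card_eq_one.mp hrest
      intro a ha
      by_cases h3 : a ∈ ({x, u, a'} : Finset GolayPt)
      · simp only [Finset.mem_insert, Finset.mem_singleton] at h3
        rcases h3 with rfl | rfl | rfl
        · exact hLx g hgL
        · exact hLu g hgL
        · exact hga'
      · have hab' : a ∈ (h • U) \ {x, u, a'} := Finset.mem_sdiff.mpr ⟨ha, h3⟩
        have hgab' : g a ∈ (h • U) \ {x, u, a'} := by
          rw [Finset.mem_sdiff]
          refine ⟨hLU' g hgL a ha, ?_⟩
          intro hcon
          simp only [Finset.mem_insert, Finset.mem_singleton] at hcon h3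
          rcases hcon with e | e | e
          · exact h3 (Or.inl (g.injective (e.trans (hLx g hgL).symm)))
          · exact h3 (Or.inr (Or.inl (g.injective (e.trans (hLu g hgL).symm))))
          · exact h3 (Or.inr (Or.inr (g.injective (e.trans hga'.symm))))
        rw [hb', Finset.mem_singleton] at hab' hgab'
        rw [hgab', hab']
    have heq : St L a' = PW (h • U) := eq_of_le_of_card_le hle (by rw [card_PW_four hU'4]; exact hc960)
    -- a point of `U` outside the translate, and a point outside both
    have hinter : (U ∩ h • U).card ≤ 3 := by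
      by_contra hcon
      have h4 : 4 ≤ (U ∩ h • U).card := by omega
      have e2 : U ∩ h • U = h • U :=
        Finset.eq_of_subset_of_card_le Finset.inter_subset_right (by rw [hU'4]; exact h4)
      have : a' ∈ U ∩ h • U := by rw [e2]; exact ha'
      exact ha'U (Finset.mem_inter.mp this).1
    obtain ⟨c, hcU, hcU'⟩ : ∃ c ∈ U, c ∉ h • U := by
      by_contra hcon
      push Not at hcon
      have : U ∩ h • U = U := Finset.inter_eq_left.mpr hcon
      rw [this, hC.U4] at hinter
      omega
    obtain ⟨d, hd⟩ : ∃ d, d ∉ U ∪ h • U := by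
      by_contra hcon
      push Not at hcon
      have : U ∪ h • U = Finset.univ := Finset.eq_univ_iff_forall.mpr hcon
      have h1 := Finset.card_union_le U (h • U)
      rw [this, Finset.card_univ, card_pts, hC.U4, hU'4] at h1
      omega
    rw [Finset.mem_union, not_or] at hd
    obtain ⟨g, hg, e⟩ := exists_PW_map (h • U) (by rw [hU'4]) hcU' hd.2
    rw [← heq] at hg
    have hgHx : g ∈ St H x := (mem_St.mp (mem_St.mp hg).1).1
    have := hC.inv g hgHx c hcU
    rw [e] at this
    exact hd.1 this
  exact Finset.eq_of_subset_of_card_le hsubU (by rw [hU'4, hC.U4])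

/-- translates of `U` under `H` meeting `U` are equal to `U` -/
theorem partition (hC : SextetCase H x U) {h : Equiv.Perm GolayPt} (hh : h ∈ H)
    (hne : (U ∩ h • U).Nonempty) : h • U = U := by
  obtain ⟨c, hc⟩ := hne
  rw [Finset.mem_inter, mem_smul_iff] at hc
  obtain ⟨k₁, hk₁, e₁⟩ := hC.tr x (h⁻¹ c)
  obtain ⟨k₂, hk₂, e₂⟩ := hC.tr x c
  have hb₁ := hC.block hk₁ (e₁ ▸ hc.2)
  have hb₂ := hC.block hk₂ (e₂ ▸ hc.1)
  have h3 : k₂⁻¹ * h * k₁ ∈ St H x := by
    refine mem_St.mpr ⟨H.mul_mem (H.mul_mem (H.inv_mem hk₂) hh) hk₁, ?_⟩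
    simp only [Equiv.Perm.mul_apply]
    rw [e₁]
    simp [← e₂]
  have h4 := smul_eq_of_forall (hC.inv _ h3)
  rw [mul_smul, mul_smul, hb₁] at h4
  have h5 : h • U = k₂ • U := by
    have := congrArg (fun V : Finset GolayPt => k₂ • V) h4
    simpa only [smul_inv_smul] using this
  rw [h5, hb₂]

end SextetCase

theorem idx1771 (H : Subgroup (Equiv.Perm GolayPt)) (hH : H ≤ M24) (hc : Nat.card H = 138240) :
    ∃ S ∈ sextets, H = SS S := by
  classical
  obtain ⟨o, ho, hE, htro, hdich⟩ := sylow_setup H hH (by rw [hc]; norm_num)
  rcases hdich with hle | htr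
  · exfalso
    have := Subgroup.card_dvd_of_le hle
    rw [card_SO ho, hc] at this
    omega
  · obtain ⟨⟨x, hx⟩, ⟨y, hy⟩⟩ := exists_mem_not_mem_octad ho
    have hyx : y ≠ x := fun e => hy (e ▸ hx)
    have hcu : ∀ u, Nat.card (St H u) = 5760 := by
      intro u
      have := card_St_of_transitive H htr u
      omega
    have hcx := hcu x
    have hHx : St H x ≤ M24 := (St_le H x).trans hH
    set R := orbF (St H x) y with hR
    have hRinv : ∀ g ∈ St H x, ∀ a ∈ R, g a ∈ R := orbF_invariant (St H x) y
    have hxR : x ∉ R := not_mem_orbF_St hyx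
    obtain ⟨hb1, hb2, hb3⟩ := orbit_bounds ho H hE hx hy
    rw [← hR] at hb1 hb2 hb3
    have hcompl : Finset.univ \ o ⊆ R := compl_subset_orbF ho H hE hx hy
    have hdvd : R.card ∣ 5760 := hcx ▸ card_orbF_dvd (St H x) y
    have hcases : R.card = 16 ∨ R.card = 18 ∨ R.card = 20 := by
      generalize R.card = n at *
      interval_cases n <;> omega
    -- the complement of `R`
    have hUinv : ∀ g ∈ St H x, ∀ a ∈ Finset.univ \ R, g a ∈ Finset.univ \ R :=
      compl_invariant hRinv
    have hUo : Finset.univ \ R ⊆ o := by
      intro a ha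
      rw [Finset.mem_sdiff] at ha
      by_contra hao
      exact ha.2 (hcompl (Finset.mem_sdiff.mpr ⟨Finset.mem_univ _, hao⟩))
    have hUcard : (Finset.univ \ R).card = 24 - R.card := by
      rw [Finset.card_sdiff_of_subset (Finset.subset_univ _), Finset.card_univ, card_pts]
    rcases hcases with h16 | h18 | h20
    · exfalso
      have hSO : SO o ≤ H := SO_le_of_orbit ho H hH hE htro hx (hb3 h16) 7 (by norm_num)
        (by rw [hcx])
      have := Subgroup.card_dvd_of_le hSO
      rw [card_SO ho, hc] at this
      omega
    · exfalso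
      -- six invariant points of the octad force `H_x` to fix the octad
      have hle : St H x ≤ SO o := by
        intro g hg
        refine mem_SO.mpr ⟨hHx hg, ?_⟩
        by_contra hne
        have h1 := octad_inter_le (Cfsg.Agent.Lib.Helper3.Golay.smul_mem_octads (hHx hg) ho) ho hne
        have h2 : Finset.univ \ R ⊆ g • o ∩ o := by
          intro a ha
          rw [Finset.mem_inter]
          refine ⟨?_, hUo ha⟩
          rw [mem_smul_iff]
          exact hUo (hUinv g⁻¹ ((St H x).inv_mem hg) a ha)
        have h3 := Finset.card_le_card h2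
        rw [hUcard, h18] at h3
        omega
      have hsub : R ⊆ Finset.univ \ o := by
        apply orbF_subset (Finset.mem_sdiff.mpr ⟨Finset.mem_univ _, hy⟩)
        intro g hg a ha
        rw [Finset.mem_sdiff] at ha ⊢
        exact ⟨Finset.mem_univ _, fun h => ha.2 ((SO_apply_mem (hle hg) a).mp h)⟩
      have := Finset.card_le_card hsub
      rw [h18, Finset.card_sdiff_of_subset (Finset.subset_univ _), Finset.card_univ, card_pts,
        ho.2] at this
      omega
    · -- the sextet case
      set U := Finset.univ \ R with hU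
      have hU4 : U.card = 4 := by rw [hUcard, h20]
      have hxU : x ∈ U := Finset.mem_sdiff.mpr ⟨Finset.mem_univ _, hxR⟩
      have hC : SextetCase H x U :=
        { le := hH
          tr := htr
          cu := hcu
          xU := hxU
          U4 := hU4
          inv := hUinv
          out := by
            intro a b ha hb
            have ha' : a ∈ R := by
              by_contra h; exact ha (Finset.mem_sdiff.mpr ⟨Finset.mem_univ _, h⟩)
            have hb' : b ∈ R := by
              by_contra h; exact hb (Finset.mem_sdiff.mpr ⟨Finset.mem_univ _, h⟩)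
            obtain ⟨k₁, hk₁, e₁⟩ := mem_orbF.mp ha'
            obtain ⟨k₂, hk₂, e₂⟩ := mem_orbF.mp hb'
            refine ⟨k₂ * k₁⁻¹, (St H x).mul_mem hk₂ ((St H x).inv_mem hk₁), ?_⟩
            have e₁' : k₁ y = a := e₁
            have e₂' : k₂ y = b := e₂
            rw [Equiv.Perm.mul_apply, ← e₁']
            simpa using e₂' }
      have hS : sextetOf U ∈ sextets := sextetOf_mem_sextets U hU4
      have hUS : U ∈ sextetOf U := by unfold sextetOf; exact Finset.mem_insert_self _ _
      refine ⟨sextetOf U, hS, ?_⟩
      -- the point stabiliser is the point stabiliser of the sextet stabiliser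
      have hQle : St H x ≤ St (SS (sextetOf U)) x := by
        intro g hg
        refine mem_St.mpr ⟨mem_SS.mpr ⟨hHx hg, ?_⟩, (mem_St.mp hg).2⟩
        rw [smul_sextetOf (hHx hg) U hU4, smul_eq_of_forall (hUinv g hg)]
      have hQ : St H x = St (SS (sextetOf U)) x :=
        eq_of_le_of_card_le hQle (by rw [hcx, card_St_SS hS])
      -- every element of `H` fixes the sextet
      have hmain : H ≤ SS (sextetOf U) := by
        intro h hh
        refine mem_SS.mpr ⟨hH hh, ?_⟩
        rw [smul_sextetOf (hH hh) U hU4]
        by_cases hhx : h x ∈ U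
        · rw [hC.block hh hhx]
        · obtain ⟨t', ht', hut'⟩ := exists_tetrad hS (h x)
          have hne : U ≠ t' := fun e => hhx (e ▸ hut')
          have hdisj : Disjoint U (h • U) := by
            rw [Finset.disjoint_iff_inter_eq_empty]
            by_contra hcon
            have := hC.partition hh (Finset.nonempty_iff_ne_empty.mpr hcon)
            apply hhx
            rw [← this]
            exact Finset.smul_mem_smul_finset (a := h) hxU
          have hU'4 : (h • U).card = 4 := by rw [Finset.card_smul_finset]; exact hU4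
          have hsub : h • U ⊆ t' := by
            intro c hcU'
            by_contra hct'
            have hcU : c ∉ U := fun h' => Finset.disjoint_left.mp hdisj h' hcU'
            have hc : c ∉ U ∪ t' := by
              rw [Finset.mem_union, not_or]; exact ⟨hcU, hct'⟩
            -- all sixteen outside points lie in the translate
            have hall : Finset.univ \ (U ∪ t') ⊆ h • U := by
              intro c' hc'
              rw [Finset.mem_sdiff] at hc'
              obtain ⟨n, hn, hnx, hnu, hnc⟩ :=
                exists_SS_fix_map hS hUS ht' hne hxU hut' hc hc'.2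
              have hnHx : n ∈ St H x := by
                rw [hQ]; exact mem_St.mpr ⟨hn, hnx⟩
              have hnHu : n ∈ St H (h x) := mem_St.mpr ⟨St_le H x hnHx, hnu⟩
              have := hC.inv_conj hh n hnHu c hcU'
              rwa [hnc] at this
            have h1 := Finset.card_le_card hall
            have h2 : (U ∪ t').card ≤ 8 := by
              have := Finset.card_union_le U t'
              rw [hU4, hS.2.1 t' ht'] at this
              exact this
            rw [Finset.card_sdiff_of_subset (Finset.subset_univ _), Finset.card_univ, card_pts,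
              hU'4] at h1
            omega
          have heq : h • U = t' :=
            Finset.eq_of_subset_of_card_le hsub (by rw [hU'4, hS.2.1 t' ht'])
          rw [heq]
          exact (eq_sextetOf hS ht').symm
      exact eq_of_le_of_card_le hmain (by rw [card_SS hS, hc])

end Cfsg.Agent.Lib.Helper6.M24Idx
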