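import Mathlib
import Cfsg.Prelude.Def_SporadicCombinatorics
import Cfsg.Agent.Lib.Helper6.M24Idx.I759
import Cfsg.Agent.S1564
import Cfsg.Agent.S1565

set_option autoImplicit false

/-!
`M24` has no subgroup of index 253 (order 967680).
-/

namespace Cfsg.Agent.Lib.Helper6.M24Idx

open Cfsg Cfsg.Agent.Lib.Helper3.Golay
open scoped Pointwise

/-- flat maximality of the setwise stabiliser of a finset of points -/
theorem eq_or_eq_of_le_SO (s : Finset GolayPt) (hco : IsCoatom (MulAction.stabilizer M24 s))
    (H : Subgroup (Equiv.Perm GolayPt)) (hH : H ≤ M24) (hle : SO s ≤ H) :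
    H = SO s ∨ H = M24 := by
  apply eq_or_eq_of_isCoatom (MulAction.stabilizer M24 s) hco
    (MulAction.stabilizer (Equiv.Perm GolayPt) s) _ H hH hle
  intro g
  rw [MulAction.mem_stabilizer_iff, MulAction.mem_stabilizer_iff]
  rfl

/-- conjugation of pointwise stabilisers -/
theorem conj_mem_PW {t : Finset GolayPt} {h g : Equiv.Perm GolayPt} (hh : h ∈ M24)
    (hg : g ∈ PW (h • t)) : h⁻¹ * g * h ∈ PW t := by
  obtain ⟨hgM, hgf⟩ := mem_PW.mp hg
  refine mem_PW.mpr ⟨M24.mul_mem (M24.mul_mem (M24.inv_mem hh) hgM) hh, ?_⟩
  intro a ha
  have h1 : g (h a) = h a := hgf (h a) (Finset.smul_mem_smul_finset (a := h) ha)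
  simp only [Equiv.Perm.mul_apply]
  rw [h1]
  simp

theorem idx253 (H : Subgroup (Equiv.Perm GolayPt)) (hH : H ≤ M24) (hc : Nat.card H = 967680) :
    False := by
  classical
  obtain ⟨o, ho, hE, htro, hdich⟩ := sylow_setup H hH (by rw [hc]; norm_num)
  rcases hdich with hle | htr
  · have := Subgroup.card_dvd_of_le hle
    rw [card_SO ho, hc] at this
    omega
  · obtain ⟨⟨x, hx⟩, ⟨y, hy⟩⟩ := exists_mem_not_mem_octad ho
    have hyx : y ≠ x := fun e => hy (e ▸ hx)
    have hcu : ∀ u, Nat.card (St H u) = 40320 := by
      intro u
      have := card_St_of_transitive H htr u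
      omega
    have hcx := hcu x
    have hHx : St H x ≤ M24 := (St_le H x).trans hH
    have hneM : H ≠ M24 := by
      intro e
      rw [e, card_M24] at hc
      omega
    set R := orbF (St H x) y with hR
    have hRinv : ∀ g ∈ St H x, ∀ a ∈ R, g a ∈ R := orbF_invariant (St H x) y
    obtain ⟨hb1, hb2, hb3⟩ := orbit_bounds ho H hE hx hy
    rw [← hR] at hb1 hb2 hb3
    have hdvd : R.card ∣ 40320 := hcx ▸ card_orbF_dvd (St H x) y
    obtain ⟨r7, hr7, hmod7⟩ := card_mod_seven (St H x) hHx (by rw [hcx]; norm_num) {x} R
      (St_fix H x) hRinv (disjoint_orbF_St hyx)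
    rw [Finset.card_singleton] at hr7
    have hcases : R.card = 16 ∨ R.card = 21 := by
      generalize R.card = n at *
      interval_cases n <;> omega
    rcases hcases with h16 | h21
    · have hSO : SO o ≤ H := SO_le_of_orbit ho H hH hE htro hx (hb3 h16) 1 (by norm_num)
        (by rw [hcx])
      rcases eq_or_eq_of_le_SO o (Cfsg.Agent.S1565.result o ho) H hH hSO with e | e
      · rw [e, card_SO ho] at hc
        omega
      · exact hneM e
    · obtain ⟨w, w', hww', hwx, hw'x, hwR, hw'R, hall, hpair⟩ :=
        two_left (St H x) hHx x (fun g hg => (mem_St.mp hg).2) R hRinv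
          (not_mem_orbF_St hyx) h21
      have hT : ({x, w, w'} : Finset GolayPt).card = 3 := card_three hwx hw'x hww'
      -- the stabiliser of `x` is the full stabiliser of `x` and `{w, w'}`
      have hQle : St H x ≤ SO {w, w'} ⊓ PW {x} := by
        intro g hg
        refine ⟨hpair hg, mem_PW.mpr ⟨hHx hg, ?_⟩⟩
        intro a ha
        rw [Finset.mem_singleton] at ha
        rw [ha]; exact (mem_St.mp hg).2
      have hQc : Nat.card ↥(SO {w, w'} ⊓ PW {x}) ≤ 40320 := by
        have := card_pair_le (s := {w, w'}) (t := {x}) (Finset.card_pair hww')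
          (SO {w, w'} ⊓ PW {x}) inf_le_left inf_le_right
        have e : ({w, w'} ∪ {x} : Finset GolayPt) = {x, w, w'} := by
          ext a; simp only [Finset.mem_union, Finset.mem_insert, Finset.mem_singleton]; tauto
        rw [e, card_PW_three hT] at this
        omega
      have hQ : St H x = SO {w, w'} ⊓ PW {x} := eq_of_le_of_card_le hQle (by rw [hcx]; exact hQc)
      have hPWT : PW {x, w, w'} ≤ St H x := by
        rw [hQ]
        intro g hg
        obtain ⟨hgM, hgf⟩ := mem_PW.mp hg
        refine ⟨mem_SO_of_forall hgM ?_, mem_PW.mpr ⟨hgM, ?_⟩⟩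
        · intro a ha
          rw [hgf a (by
            simp only [Finset.mem_insert, Finset.mem_singleton] at ha ⊢
            tauto)]
          exact ha
        · intro a ha
          exact hgf a (by
            simp only [Finset.mem_insert, Finset.mem_singleton] at ha ⊢
            tauto)
      have hPWH : PW {x, w, w'} ≤ H := hPWT.trans (St_le H x)
      -- the block property
      have hblock : ∀ h ∈ H, h x ∈ ({x, w, w'} : Finset GolayPt) →
          h • ({x, w, w'} : Finset GolayPt) = {x, w, w'} := by
        intro h hh hhx
        by_contra hne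
        set T : Finset GolayPt := {x, w, w'} with hTdef
        set c := h x with hcdef
        have hcT' : c ∈ h • T := Finset.smul_mem_smul_finset (a := h) (by rw [hTdef]; simp)
        have hT'card : (h • T).card = 3 := by rw [Finset.card_smul_finset]; exact hT
        -- a point outside both
        obtain ⟨z₀, hz₀⟩ : ∃ z₀, z₀ ∉ T ∪ h • T := by
          by_contra hcon
          push Not at hcon
          have : T ∪ h • T = Finset.univ := Finset.eq_univ_iff_forall.mpr hcon
          have h1 := Finset.card_union_le T (h • T)
          rw [this, Finset.card_univ, card_pts, hT, hT'card] at h1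
          omega
        rw [Finset.mem_union, not_or] at hz₀
        have hz₀c : z₀ ≠ c := fun e => hz₀.1 (e ▸ hhx)
        have hPW1 : PW T ≤ St H c := by
          intro g hg
          exact mem_St.mpr ⟨hPWH hg, (mem_PW.mp hg).2 c hhx⟩
        have hPW2 : PW (h • T) ≤ St H c := by
          intro g hg
          have h1 := hPWH (conj_mem_PW (hH hh) hg)
          have h2 : g = h * (h⁻¹ * g * h) * h⁻¹ := by group
          refine mem_St.mpr ⟨?_, (mem_PW.mp hg).2 c hcT'⟩
          rw [h2]
          exact H.mul_mem (H.mul_mem hh h1) (H.inv_mem hh)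
        have hbig : Finset.univ \ (T ∩ h • T) ⊆ orbF (St H c) z₀ := by
          intro a ha
          rw [Finset.mem_sdiff, Finset.mem_inter, not_and_or] at ha
          rcases ha.2 with ha' | ha'
          · obtain ⟨g, hg, e⟩ := exists_PW_map T (by rw [hT]; norm_num) hz₀.1 ha'
            exact mem_orbF.mpr ⟨g, hPW1 hg, e⟩
          · obtain ⟨g, hg, e⟩ := exists_PW_map (h • T) (by rw [hT'card]; norm_num) hz₀.2 ha'
            exact mem_orbF.mpr ⟨g, hPW2 hg, e⟩
        have hinter : (T ∩ h • T).card ≤ 2 := by
          by_contra hcon
          have h3 : 3 ≤ (T ∩ h • T).card := by omega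
          have e1 : T ∩ h • T = T :=
            Finset.eq_of_subset_of_card_le Finset.inter_subset_left (by rw [hT]; exact h3)
          have e2 : T ∩ h • T = h • T :=
            Finset.eq_of_subset_of_card_le Finset.inter_subset_right (by rw [hT'card]; exact h3)
          exact hne (e2.symm.trans e1)
        have hlow : 22 ≤ (orbF (St H c) z₀).card := by
          have h1 := Finset.card_le_card hbig
          rw [Finset.card_sdiff_of_subset (Finset.subset_univ _), Finset.card_univ, card_pts] at h1
          omega
        have hup : (orbF (St H c) z₀).card ≤ 23 := by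
          have h1 : orbF (St H c) z₀ ⊆ Finset.univ.erase c := by
            intro a ha
            rw [Finset.mem_erase]
            refine ⟨?_, Finset.mem_univ _⟩
            rintro rfl
            exact not_mem_orbF_St hz₀c ha
          have := Finset.card_le_card h1
          rw [Finset.card_erase_of_mem (Finset.mem_univ _), Finset.card_univ, card_pts] at this
          exact this
        have hd : (orbF (St H c) z₀).card ∣ 40320 := hcu c ▸ card_orbF_dvd (St H c) z₀
        generalize (orbF (St H c) z₀).card = n at *
        interval_cases n <;> omega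
      -- `H` contains the stabiliser of the triple
      have hSOT : SO {x, w, w'} ≤ H := by
        intro g hg
        obtain ⟨hgM, hgT⟩ := mem_SO.mp hg
        have hgx : g x ∈ ({x, w, w'} : Finset GolayPt) := (SO_apply_mem hg x).mpr (by simp)
        obtain ⟨h, hh, e⟩ := htr x (g x)
        have hhT := hblock h hh (e ▸ hgx)
        have hk : h⁻¹ * g ∈ St H x := by
          rw [hQ]
          have hkM : h⁻¹ * g ∈ M24 := M24.mul_mem (M24.inv_mem (hH hh)) hgM
          have hkx : (h⁻¹ * g) x = x := by
            rw [Equiv.Perm.mul_apply, ← e]; simp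
          have hkT : (h⁻¹ * g) • ({x, w, w'} : Finset GolayPt) = {x, w, w'} := by
            rw [mul_smul, hgT]
            conv_lhs => rw [← hhT]
            rw [inv_smul_smul]
          refine ⟨mem_SO_of_forall hkM ?_, mem_PW.mpr ⟨hkM, ?_⟩⟩
          · intro a ha
            have hkSO : h⁻¹ * g ∈ SO {x, w, w'} := mem_SO.mpr ⟨hkM, hkT⟩
            have h1 : (h⁻¹ * g) a ∈ ({x, w, w'} : Finset GolayPt) :=
              (SO_apply_mem hkSO a).mpr (by
                simp only [Finset.mem_insert, Finset.mem_singleton] at ha ⊢
                tauto)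
            have h2 : (h⁻¹ * g) a ≠ x := by
              intro h3
              have : a = x := (h⁻¹ * g).injective (h3.trans hkx.symm)
              simp only [Finset.mem_insert, Finset.mem_singleton] at ha
              rcases ha with rfl | rfl
              · exact hwx this
              · exact hw'x this
            simp only [Finset.mem_insert, Finset.mem_singleton] at h1 ⊢
            tauto
          · intro a ha
            rw [Finset.mem_singleton] at ha
            rw [ha]; exact hkx
        have : g = h * (h⁻¹ * g) := by group
        rw [this]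
        exact H.mul_mem hh (St_le H x hk)
      rcases eq_or_eq_of_le_SO {x, w, w'} (Cfsg.Agent.S1564.result _ hT) H hH hSOT with e | e
      · -- `H` is transitive, so it cannot fix the triple
        obtain ⟨h, hh, ehy⟩ := htr x y
        have hyT : y ∉ ({x, w, w'} : Finset GolayPt) := by
          have hyR : y ∈ R := self_mem_orbF _ _
          simp only [Finset.mem_insert, Finset.mem_singleton, not_or]
          refine ⟨hyx, ?_, ?_⟩
          · rintro rfl; exact hwR hyR
          · rintro rfl; exact hw'R hyR
        rw [e] at hh
        have := (SO_apply_mem hh x).mpr (by simp)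
        rw [ehy] at this
        exact hyT this
      · exact hneM e

end Cfsg.Agent.Lib.Helper6.M24Idx
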