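import Mathlib
import Cfsg.Prelude.Def_SporadicCombinatorics
import Cfsg.Agent.Lib.Helper6.M24Idx.Basic

set_option autoImplicit false

/-!
A subgroup of index 276 of `M24` (order 887040) is the stabiliser of a pair of points.
-/

namespace Cfsg.Agent.Lib.Helper6.M24Idx

open Cfsg Cfsg.Agent.Lib.Helper3.Golay
open scoped Pointwise

theorem card_PW_one (x : GolayPt) : Nat.card (PW {x}) = 10200960 := by
  rw [card_PW_eq _ (by simp), Finset.card_singleton]; decide

theorem card_PW_two {s : Finset GolayPt} (hs : s.card = 2) : Nat.card (PW s) = 443520 := by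
  rw [card_PW_eq _ (by omega), hs]; decide

theorem St_le_PW_one {H : Subgroup (Equiv.Perm GolayPt)} (hH : H ≤ M24) (x : GolayPt) :
    St H x ≤ PW {x} := by
  intro g hg
  obtain ⟨h1, h2⟩ := mem_St.mp hg
  refine mem_PW.mpr ⟨hH h1, fun a ha => ?_⟩
  rw [Finset.mem_singleton] at ha
  rw [ha]; exact h2

/-- in a transitive subgroup of order 887040, a point stabiliser fixes every fixed point of each of
its elements of order 11 -/
theorem fix_of_eleven (H : Subgroup (Equiv.Perm GolayPt)) (hH : H ≤ M24)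
    (hc : Nat.card H = 887040) (htr : ∀ a b : GolayPt, ∃ h ∈ H, h a = b) (x : GolayPt)
    (g : Equiv.Perm GolayPt) (hg : g ∈ St H x) (hog : orderOf g = 11) (v : GolayPt)
    (hv : v ∈ fixF g) (hvx : v ≠ x) : ∀ h ∈ St H x, h v = v := by
  classical
  have : Fact (Nat.Prime 11) := ⟨by norm_num⟩
  have hHx : St H x ≤ M24 := (St_le H x).trans hH
  have hcx : Nat.card (St H x) = 36960 := by
    have := card_St_of_transitive H htr x
    omega
  have hfix := card_fixF_eleven (hHx hg) hog
  have hxfix : x ∈ fixF g := mem_fixF.mpr (mem_St.mp hg).2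
  have hFeq : ({x, v} : Finset GolayPt) = fixF g := by
    apply Finset.eq_of_subset_of_card_le
    · intro a ha
      rcases Finset.mem_insert.mp ha with rfl | ha
      · exact hxfix
      · rw [Finset.mem_singleton] at ha; rw [ha]; exact hv
    · rw [hfix, Finset.card_pair (Ne.symm hvx)]
  set R := orbF (St H x) v with hR
  have hRinv : ∀ g ∈ St H x, ∀ y ∈ R, g y ∈ R := orbF_invariant (St H x) v
  have hxR : x ∉ R := not_mem_orbF_St hvx
  have hvR : v ∈ R := self_mem_orbF _ _
  have hRfix : R ∩ fixF g = {v} := by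
    rw [← hFeq]
    ext a
    simp only [Finset.mem_inter, Finset.mem_insert, Finset.mem_singleton]
    constructor
    · rintro ⟨h1, rfl | rfl⟩
      · exact absurd h1 hxR
      · rfl
    · rintro rfl
      exact ⟨hvR, Or.inr rfl⟩
  have hmod11 := card_mod_of_invariant hog R (invariant_iff hRinv hg)
  rw [hRfix, Finset.card_singleton] at hmod11
  have hdvd : R.card ∣ 36960 := hcx ▸ card_orbF_dvd (St H x) v
  obtain ⟨r7, hr7, hmod7⟩ := card_mod_seven (St H x) hHx (by rw [hcx]; norm_num) {x} R
    (St_fix H x) hRinv (disjoint_orbF_St hvx)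
  rw [Finset.card_singleton] at hr7
  have hle : R.card ≤ 24 := (Finset.card_le_univ R).trans_eq card_pts
  have hpos : 1 ≤ R.card := Finset.card_pos.mpr ⟨v, hvR⟩
  have hone : R.card = 1 := by
    generalize R.card = n at *
    interval_cases n <;> omega
  obtain ⟨a, ha⟩ := Finset.card_eq_one.mp hone
  have hav : v = a := by
    have := hvR
    rw [ha, Finset.mem_singleton] at this
    exact this
  intro h hh
  have := hRinv h hh v hvR
  rw [ha, Finset.mem_singleton] at this
  rw [this, hav]

theorem idx276 (H : Subgroup (Equiv.Perm GolayPt)) (hH : H ≤ M24) (hc : Nat.card H = 887040) :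
    ∃ s : Finset GolayPt, s.card = 2 ∧ H = SO s := by
  classical
  have : Fact (Nat.Prime 11) := ⟨by norm_num⟩
  have : Fact (Nat.Prime 7) := ⟨by norm_num⟩
  obtain ⟨g, hg, hog⟩ := exists_orderOf_eq H 11 (by rw [hc]; norm_num)
  have hfix := card_fixF_eleven (hH hg) hog
  obtain ⟨u, hu⟩ : (fixF g).Nonempty := Finset.card_pos.mp (by omega)
  set O := orbF H u with hO
  have hOinv : ∀ g ∈ H, ∀ y ∈ O, g y ∈ O := orbF_invariant H u
  have huO : u ∈ O := self_mem_orbF _ _
  have hdvd : O.card ∣ 887040 := hc ▸ card_orbF_dvd H u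
  have hmod11 := card_mod_of_invariant hog O (invariant_iff hOinv hg)
  have hr1 : 1 ≤ (O ∩ fixF g).card :=
    Finset.card_pos.mpr ⟨u, Finset.mem_inter.mpr ⟨huO, hu⟩⟩
  have hr2 : (O ∩ fixF g).card ≤ 2 := hfix ▸ Finset.card_le_card Finset.inter_subset_right
  obtain ⟨r7, hr7, hmod7⟩ := card_mod_seven H hH (by rw [hc]; norm_num) ∅ O
    (by simp) hOinv (by simp)
  rw [Finset.card_empty] at hr7
  have hle : O.card ≤ 24 := (Finset.card_le_univ O).trans_eq card_pts
  have hpos : 1 ≤ O.card := Finset.card_pos.mpr ⟨u, huO⟩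
  have hcases : O.card = 1 ∨ O.card = 2 ∨ O.card = 24 := by
    generalize O.card = n at *
    generalize (O ∩ fixF g).card = r at *
    interval_cases n <;> omega
  rcases hcases with h1 | h2 | h24
  · -- a fixed point: impossible by order
    exfalso
    have h := card_St_mul H u
    rw [← hO, h1, hc, one_mul] at h
    have hd := Subgroup.card_dvd_of_le (St_le_PW_one hH u)
    rw [card_PW_one, ← h] at hd
    omega
  · -- an orbit of size two
    refine ⟨O, h2, ?_⟩
    have hle : H ≤ SO O := fun h hh => mem_SO_of_forall (hH hh) (fun x hx => hOinv h hh x hx)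
    apply eq_of_le_of_card_le hle
    have := card_pair_le (t := ∅) h2 (SO O) le_rfl (by
      intro k hk
      exact mem_PW.mpr ⟨(mem_SO.mp hk).1, by simp⟩)
    rw [Finset.union_empty, card_PW_two h2] at this
    omega
  · -- transitive
    exfalso
    have hOuniv : O = Finset.univ := Finset.eq_univ_of_card O (by rw [h24, card_pts])
    have hu_tr : ∀ a : GolayPt, ∃ h ∈ H, h u = a := by
      intro a
      have : a ∈ O := by rw [hOuniv]; exact Finset.mem_univ a
      exact mem_orbF.mp this
    have htr : ∀ a b : GolayPt, ∃ h ∈ H, h a = b := by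
      intro a b
      obtain ⟨g₁, hg₁, e₁⟩ := hu_tr a
      obtain ⟨g₂, hg₂, e₂⟩ := hu_tr b
      refine ⟨g₂ * g₁⁻¹, H.mul_mem hg₂ (H.inv_mem hg₁), ?_⟩
      rw [Equiv.Perm.mul_apply, ← e₁]
      simpa using e₂
    have hcx : ∀ x, Nat.card (St H x) = 36960 := by
      intro x
      have := card_St_of_transitive H htr x
      omega
    -- every point stabiliser fixes a second point
    have claim : ∀ x : GolayPt, ∃ g₁ ∈ St H x, orderOf g₁ = 11 ∧ ∃ v, v ≠ x ∧
        fixF g₁ = {x, v} ∧ (∀ h ∈ St H x, h v = v) ∧ St H x = St H v := by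
      intro x
      obtain ⟨g₁, hg₁, ho₁⟩ := exists_orderOf_eq (St H x) 11 (by rw [hcx]; norm_num)
      have hg₁M : g₁ ∈ M24 := hH (St_le H x hg₁)
      have hf₁ := card_fixF_eleven hg₁M ho₁
      have hx₁ : x ∈ fixF g₁ := mem_fixF.mpr (mem_St.mp hg₁).2
      obtain ⟨v, hv, hvx⟩ := Finset.exists_mem_ne (by omega : 1 < (fixF g₁).card) x
      have hFeq : fixF g₁ = {x, v} := by
        symm
        apply Finset.eq_of_subset_of_card_le
        · intro a ha
          rcases Finset.mem_insert.mp ha with rfl | ha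
          · exact hx₁
          · rw [Finset.mem_singleton] at ha; rw [ha]; exact hv
        · rw [hf₁, Finset.card_pair (Ne.symm hvx)]
      have hP := fix_of_eleven H hH hc htr x g₁ hg₁ ho₁ v hv hvx
      refine ⟨g₁, hg₁, ho₁, v, hvx, hFeq, hP, ?_⟩
      apply eq_of_le_of_card_le
      · intro k hk
        exact mem_St.mpr ⟨(mem_St.mp hk).1, hP k hk⟩
      · rw [hcx, hcx]
    obtain ⟨g₁, hg₁, ho₁, v, hvx, hF₁, hP₁, hE₁⟩ := claim u
    obtain ⟨g₇, hg₇, ho₇⟩ := exists_orderOf_eq (St H u) 7 (by rw [hcx]; norm_num)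
    have hg₇M : g₇ ∈ M24 := hH (St_le H u hg₇)
    have hf₇ := card_fixF_seven hg₇M ho₇
    have hu₇ : u ∈ fixF g₇ := mem_fixF.mpr (mem_St.mp hg₇).2
    have hv₇ : v ∈ fixF g₇ := mem_fixF.mpr (hP₁ g₇ hg₇)
    obtain ⟨z, hz₇, hz⟩ : ∃ z ∈ fixF g₇, z ∉ ({u, v} : Finset GolayPt) := by
      by_contra hcon
      push Not at hcon
      have hsub : fixF g₇ ⊆ {u, v} := hcon
      have := Finset.card_le_card hsub
      rw [hf₇, Finset.card_pair (Ne.symm hvx)] at this
      omega
    have hzu : z ≠ u := fun e => hz (by rw [e]; simp)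
    have hzv : z ≠ v := fun e => hz (by rw [e]; simp)
    obtain ⟨g₂, hg₂, ho₂, z', hz'z, hF₂, hP₂, hE₂⟩ := claim z
    have hF₇ : fixF g₇ = {u, v, z} := by
      symm
      apply Finset.eq_of_subset_of_card_le
      · intro a ha
        rcases Finset.mem_insert.mp ha with rfl | ha
        · exact hu₇
        · rcases Finset.mem_insert.mp ha with rfl | ha
          · exact hv₇
          · rw [Finset.mem_singleton] at ha; rw [ha]; exact hz₇
      · rw [hf₇]
        have : ({u, v, z} : Finset GolayPt).card = 3 := by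
          rw [Finset.card_insert_of_notMem, Finset.card_pair (Ne.symm hzv)]
          simp only [Finset.mem_insert, Finset.mem_singleton, not_or]
          exact ⟨Ne.symm hvx, Ne.symm hzu⟩
        omega
    have hg₇z : g₇ ∈ St H z := mem_St.mpr ⟨(mem_St.mp hg₇).1, mem_fixF.mp hz₇⟩
    have hz'₇ : z' ∈ fixF g₇ := by
      rw [hE₂] at hg₇z
      exact mem_fixF.mpr (mem_St.mp hg₇z).2
    have hEzu : St H z = St H u := by
      rw [hF₇] at hz'₇
      rcases Finset.mem_insert.mp hz'₇ with e | h
      · rw [hE₂, e]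
      · rcases Finset.mem_insert.mp h with e | h
        · rw [hE₂, e, ← hE₁]
        · rw [Finset.mem_singleton] at h
          exact absurd h hz'z
    have hg₁z : g₁ ∈ St H z := by rw [hEzu]; exact hg₁
    have : z ∈ fixF g₁ := mem_fixF.mpr (mem_St.mp hg₁z).2
    rw [hF₁] at this
    exact hz this

end Cfsg.Agent.Lib.Helper6.M24Idx
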